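import Cfsg.Agent.Lib.J4Type.MaxLocal.Core

/-!
The conclusion for `2^{3+12}.(S₅ × L₃(2))` from the subgroup of order eight.
-/

set_option autoImplicit false
set_option linter.unusedSectionVars false
set_option maxRecDepth 20000

namespace CfsgLib.J4Type.MaxLocal

open CfsgLib.ThreeTrans.Torsion
open scoped commutatorElement

universe u

variable {G : Type u} [Group G] [Finite G]

namespace Pieces

variable {z : G} {E L A : Subgroup G} (h : Pieces z E L A)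

local notation "𝓒" => Subgroup.centralizer (E : Set G)
local notation "𝓜" => Subgroup.normalizer (E : Set G)

include h

/-- An element of order seven fixes only the identity of the subgroup of order eight. -/
theorem fixed_eq_one {S : Subgroup G} (hS : Nat.card S = 7) (hSM : S ≤ 𝓜) (hSC : S ⊓ 𝓒 = ⊥) {e : G}
    (he : e ∈ E) (hc : ∀ s ∈ S, Commute s e) : e = 1 := by
  haveI : Fact (Nat.Prime 7) := ⟨by norm_num⟩
  have h' := ncard_modEq hS (O := (E : Set G)) fun s hs a ha => (Subgroup.mem_normalizer_iff.1 (hSM hs) a).1 ha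
  rw [show {a ∈ (E : Set G) | ∀ s ∈ S, Commute s a} = ((E ⊓ Subgroup.centralizer (S : Set G) : Subgroup G) : Set G) by
    ext a
    simp only [Set.mem_ofPred_eq, Subgroup.coe_inf, Set.mem_inter_iff, SetLike.mem_coe, Subgroup.mem_centralizer_iff]
    exact Iff.rfl, ← Nat.card_coe_set_eq, ← Nat.card_coe_set_eq] at h'
  change Nat.card E ≡ Nat.card (E ⊓ Subgroup.centralizer (S : Set G) : Subgroup G) [MOD 7] at h'
  have hd : Nat.card (E ⊓ Subgroup.centralizer (S : Set G) : Subgroup G) ∣ 2 ^ 3 := by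
    rw [show 2 ^ 3 = Nat.card E by rw [h.card_E]; rfl]
    exact Subgroup.card_dvd_of_le inf_le_left
  obtain ⟨i, hi, hi'⟩ := (Nat.dvd_prime_pow Nat.prime_two).1 hd
  rw [h.card_E, hi'] at h'
  have hmem : e ∈ E ⊓ Subgroup.centralizer (S : Set G) :=
    ⟨he, Subgroup.mem_centralizer_iff.2 fun s hs => (hc s hs).eq⟩
  interval_cases i
  · rw [Subgroup.eq_bot_of_card_eq _ hi', Subgroup.mem_bot] at hmem; exact hmem
  · exfalso; revert h'; norm_num [Nat.ModEq]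
  · exfalso; revert h'; norm_num [Nat.ModEq]
  · exfalso
    have htop : (E ⊓ Subgroup.centralizer (S : Set G) : Subgroup G) = E :=
      Subgroup.eq_of_le_of_card_ge inf_le_left (by rw [h.card_E, hi']; norm_num)
    have hsub : S ≤ S ⊓ 𝓒 := le_inf le_rfl fun s hs => Subgroup.mem_centralizer_iff.2 fun a ha =>
      (Subgroup.mem_centralizer_iff.1 ((htop.symm ▸ ha : a ∈ E ⊓ Subgroup.centralizer (S : Set G)).2) s hs).symm
    rw [hSC, le_bot_iff] at hsub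
    rw [hsub, Subgroup.card_bot] at hS
    norm_num at hS

/-- A nontrivial part of the subgroup of order eight stable under an element of order seven is everything. -/
theorem eq_E {S X : Subgroup G} (hS : Nat.card S = 7) (hSM : S ≤ 𝓜) (hSC : S ⊓ 𝓒 = ⊥) (hX : X ≤ E)
    (hn : ∀ s ∈ S, ∀ x ∈ X, s * x * s⁻¹ ∈ X) (hz : z ∈ X) : X = E := by
  haveI : Fact (Nat.Prime 7) := ⟨by norm_num⟩
  have h' := ncard_modEq hS (O := (X : Set G)) hn
  rw [show {a ∈ (X : Set G) | ∀ s ∈ S, Commute s a} = {1} by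
    ext a
    exact ⟨fun ha => h.fixed_eq_one hS hSM hSC (hX ha.1) ha.2,
      by rintro rfl; exact ⟨X.one_mem, fun s _ => Commute.one_right s⟩⟩, Set.ncard_singleton,
    ← Nat.card_coe_set_eq] at h'
  change Nat.card X ≡ 1 [MOD 7] at h'
  have hd : Nat.card X ∣ 2 ^ 3 := by
    rw [show 2 ^ 3 = Nat.card E by rw [h.card_E]; rfl]
    exact Subgroup.card_dvd_of_le hX
  obtain ⟨i, hi, hi'⟩ := (Nat.dvd_prime_pow Nat.prime_two).1 hd
  rw [hi'] at h'
  interval_cases i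
  · rw [Subgroup.eq_bot_of_card_eq _ hi', Subgroup.mem_bot] at hz; exact absurd hz h.z_ne
  · exfalso; revert h'; norm_num [Nat.ModEq]
  · exfalso; revert h'; norm_num [Nat.ModEq]
  · exact Subgroup.eq_of_le_of_card_ge hX (by rw [h.card_E, hi']; norm_num)

theorem exists_comm : ∃ a ∈ A, ∃ b ∈ A, a * b * a⁻¹ * b⁻¹ = z := by
  by_contra hno
  push Not at hno
  have hle : A ≤ E := fun a ha => h.A_central a ha fun b hb => by
    have := (h.A_derived a ha b hb).resolve_right (hno a ha b hb)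
    rwa [mul_inv_eq_one, mul_inv_eq_iff_eq_mul] at this
  have := Nat.le_of_dvd Nat.card_pos (Subgroup.card_dvd_of_le hle)
  rw [h.card_A, h.card_E] at this
  norm_num at this

theorem structure_L (hl : Locals G) :
    (∀ x ∈ L, ∀ y ∈ L, x * y * x⁻¹ * y⁻¹ ∈ E) ∧ (∀ x ∈ L, x * x ∈ E) ∧ E ≤ ⁅L, L⁆ ∧
    (∀ x ∈ L, (∀ y ∈ L, x * y = y * x) → x ∈ E) := by
  classical
  obtain ⟨S, I, Q, hi⟩ := h.exists_inner hl
  have hSC : S ⊓ 𝓒 = ⊥ := by
    rw [Subgroup.eq_bot_iff_forall]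
    rintro s ⟨hs, hsC⟩
    have h1 : orderOf (⟨s, hs⟩ : S) ∣ 7 := hi.card_S ▸ orderOf_dvd_natCard _
    have h2 : orderOf (⟨s, hsC⟩ : 𝓒) ∣ 2 ^ 15 * 120 := h.card_C ▸ orderOf_dvd_natCard _
    rw [← Subgroup.orderOf_coe] at h1 h2
    have h3 := Nat.dvd_gcd h1 h2
    norm_num at h3
    exact h3
  have hLn := h.L_conj hl
  obtain ⟨a₀, ha₀, b₀, hb₀, hab⟩ := h.exists_comm
  obtain ⟨k, hkS, hkz⟩ : ∃ k ∈ S, k * z * k⁻¹ ≠ z := by
    by_contra hno
    push Not at hno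
    exact h.z_ne (h.fixed_eq_one hi.card_S hi.S_le hSC h.z_mem fun s hs => mul_inv_eq_iff_eq_mul.1 (hno s hs))
  have hk : k ∈ 𝓜 := hi.S_le hkS
  set A' := A.map (MulAut.conj k).toMonoidHom with hA'
  have hA'L : A' ≤ L := by rintro _ ⟨a, ha, rfl⟩; exact hLn k hk a (h.A_le ha)
  have hA'n : ∀ c ∈ 𝓒, ∀ x ∈ A', c * x * c⁻¹ ∈ A' := by
    rintro c hc _ ⟨a, ha, rfl⟩
    refine ⟨(k⁻¹ * c * k) * a * (k⁻¹ * c * k)⁻¹, h.A_normal _ ?_ a ha, ?_⟩
    · simpa using h.conj_C ((𝓜).inv_mem hk) hc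
    · simp [mul_assoc]
  have hne : A ⊔ A' ≠ A := fun e => by
    have hle : A' ≤ A := e ▸ le_sup_right
    have h1 := h.A_derived _ (hle ⟨a₀, ha₀, rfl⟩) _ (hle ⟨b₀, hb₀, rfl⟩)
    simp only [MulEquiv.coe_toMonoidHom, MulAut.conj_apply] at h1
    rw [show k * a₀ * k⁻¹ * (k * b₀ * k⁻¹) * (k * a₀ * k⁻¹)⁻¹ * (k * b₀ * k⁻¹)⁻¹ =
      k * (a₀ * b₀ * a₀⁻¹ * b₀⁻¹) * k⁻¹ by group, hab, conj_eq_one_iff] at h1
    exact h1.elim h.z_ne hkz
  have hgen : A ⊔ A' = L := by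
    refine h.eq_L_of_lt hl hi le_sup_left hne (sup_le h.A_le hA'L) fun q hq u hu => ?_
    have hqC := hi.I_le (hi.Q_le hq)
    have hmap : (A ⊔ A').map (MulAut.conj q).toMonoidHom ≤ A ⊔ A' := by
      rw [Subgroup.map_sup]
      refine sup_le_sup ?_ ?_
      · rintro _ ⟨a, ha, rfl⟩; exact h.A_normal q hqC a ha
      · rintro _ ⟨a, ha, rfl⟩; exact hA'n q hqC a ha
    exact hmap ⟨u, hu, rfl⟩
  have hCE : ∀ y ∈ L, ∀ e ∈ E, y * e * y⁻¹ = e := fun y hy e he => by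
    rw [← Subgroup.mem_centralizer_iff.1 (h.L_le hy) e he, mul_inv_cancel_right]
  have hconjE : ∀ e ∈ E, k * e * k⁻¹ ∈ E := fun e he => (Subgroup.mem_normalizer_iff.1 hk e).1 he
  -- commutators
  let B : Subgroup G :=
    { carrier := {y | y ∈ L ∧ ∀ x ∈ L, x * y * x⁻¹ * y⁻¹ ∈ E}
      one_mem' := ⟨L.one_mem, fun x _ => by simp⟩
      mul_mem' := fun {y y'} hy hy' => ⟨L.mul_mem hy.1 hy'.1, fun x hx => by
        rw [show x * (y * y') * x⁻¹ * (y * y')⁻¹ = (x * y * x⁻¹ * y⁻¹) * (y * (x * y' * x⁻¹ * y'⁻¹) * y⁻¹) by group,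
          hCE y hy.1 _ (hy'.2 x hx)]
        exact E.mul_mem (hy.2 x hx) (hy'.2 x hx)⟩
      inv_mem' := fun {y} hy => ⟨L.inv_mem hy.1, fun x hx => by
        rw [show x * y⁻¹ * x⁻¹ * y⁻¹⁻¹ = y⁻¹ * (x * y * x⁻¹ * y⁻¹)⁻¹ * y⁻¹⁻¹ by group,
          hCE _ (L.inv_mem hy.1) _ (E.inv_mem (hy.2 x hx))]
        exact E.inv_mem (hy.2 x hx)⟩ }
  have hAB : A ≤ B := fun a ha => ⟨h.A_le ha, fun x hx => h.A_comm x hx a ha⟩
  have hA'B : A' ≤ B := by
    rintro _ ⟨a, ha, rfl⟩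
    refine ⟨hA'L ⟨a, ha, rfl⟩, fun x hx => ?_⟩
    have hx' : k⁻¹ * x * k ∈ L := by simpa using hLn _ ((𝓜).inv_mem hk) x hx
    have := hconjE _ (h.A_comm _ hx' a ha)
    simpa [mul_assoc] using this
  have hcomm : ∀ x ∈ L, ∀ y ∈ L, x * y * x⁻¹ * y⁻¹ ∈ E := fun x hx y hy =>
    ((hgen.ge.trans (sup_le hAB hA'B)) hy).2 x hx
  -- squares
  let B2 : Subgroup G :=
    { carrier := {x | x ∈ L ∧ x * x ∈ E}
      one_mem' := ⟨L.one_mem, by simp⟩
      mul_mem' := fun {x y} hx hy => ⟨L.mul_mem hx.1 hy.1, by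
        rw [show x * y * (x * y) = (x * x) * ((x⁻¹ * y * x⁻¹⁻¹ * y⁻¹) * (y * y)) by group]
        exact E.mul_mem hx.2 (E.mul_mem (hcomm _ (L.inv_mem hx.1) _ hy.1) hy.2)⟩
      inv_mem' := fun {x} hx => ⟨L.inv_mem hx.1, by
        rw [show x⁻¹ * x⁻¹ = (x * x)⁻¹ by group]; exact E.inv_mem hx.2⟩ }
  have hA2 : A ≤ B2 := fun a ha => ⟨h.A_le ha, h.A_sq a ha⟩
  have hA'2 : A' ≤ B2 := by
    rintro _ ⟨a, ha, rfl⟩
    refine ⟨hA'L ⟨a, ha, rfl⟩, ?_⟩
    simpa [mul_assoc] using hconjE _ (h.A_sq a ha)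
  have hsq : ∀ x ∈ L, x * x ∈ E := fun x hx => ((hgen.ge.trans (sup_le hA2 hA'2)) hx).2
  have hder : E ≤ ⁅L, L⁆ := by
    have hzc : z ∈ E ⊓ ⁅L, L⁆ := ⟨h.z_mem, by
      rw [← hab]; exact Subgroup.commutator_mem_commutator (h.A_le ha₀) (h.A_le hb₀)⟩
    rw [← h.eq_E hi.card_S hi.S_le hSC inf_le_left (fun s hs x hx => ⟨(Subgroup.mem_normalizer_iff.1 (hi.S_le hs) x).1 hx.1, ?_⟩) hzc]
    · exact inf_le_right
    have hmap : ⁅L, L⁆.map (MulAut.conj s).toMonoidHom ≤ ⁅L, L⁆ := by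
      rw [Subgroup.map_commutator]
      exact Subgroup.commutator_mono (by rintro _ ⟨l, hl', rfl⟩; exact hLn s (hi.S_le hs) l hl')
        (by rintro _ ⟨l, hl', rfl⟩; exact hLn s (hi.S_le hs) l hl')
    exact hmap ⟨x, hx.2, rfl⟩
  refine ⟨hcomm, hsq, hder, fun x hx hxc => h.A_central x ?_ fun b hb => hxc b (h.A_le hb)⟩
  -- central elements lie in `A`
  by_contra hxA
  let Z : Subgroup G := L ⊓ Subgroup.centralizer (L : Set G)
  have hxZ : x ∈ Z := ⟨hx, Subgroup.mem_centralizer_iff.2 fun y hy => (hxc y hy).symm⟩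
  have hU : A ⊔ Z = L := by
    refine h.eq_L_of_lt hl hi le_sup_left (fun e => hxA (e ▸ Subgroup.mem_sup_right hxZ))
      (sup_le h.A_le inf_le_left) fun q hq u hu => ?_
    have hqC := hi.I_le (hi.Q_le hq)
    have hmap : (A ⊔ Z).map (MulAut.conj q).toMonoidHom ≤ A ⊔ Z := by
      rw [Subgroup.map_sup]
      refine sup_le_sup ?_ ?_
      · rintro _ ⟨a, ha, rfl⟩; exact h.A_normal q hqC a ha
      · rintro _ ⟨c, hc, rfl⟩
        refine ⟨h.L_normal q hqC c hc.1, Subgroup.mem_centralizer_iff.2 fun y hy => ?_⟩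
        have hy' : q⁻¹ * y * q ∈ L := by simpa using h.L_normal _ ((𝓒).inv_mem hqC) y hy
        show y * (q * c * q⁻¹) = q * c * q⁻¹ * y
        calc y * (q * c * q⁻¹) = q * ((q⁻¹ * y * q) * c) * q⁻¹ := by group
          _ = q * (c * (q⁻¹ * y * q)) * q⁻¹ := by rw [Subgroup.mem_centralizer_iff.1 hc.2 _ hy']
          _ = q * c * q⁻¹ * y := by group
    exact hmap ⟨u, hu, rfl⟩
  have hle : ⁅L, L⁆ ≤ Subgroup.zpowers z := by
    rw [Subgroup.commutator_le]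
    intro x₁ hx₁ y₁ hy₁
    have hZn : Z ≤ Subgroup.normalizer (A : Set G) := fun c hc =>
      Subgroup.mem_normalizer_fintype fun a ha => h.A_normal c (h.L_le hc.1) a ha
    have hx' : x₁ ∈ (↑(A ⊔ Z) : Set G) := by rw [hU]; exact hx₁
    have hy' : y₁ ∈ (↑(A ⊔ Z) : Set G) := by rw [hU]; exact hy₁
    rw [Subgroup.coe_mul_of_right_le_normalizer_left A Z hZn] at hx' hy'
    obtain ⟨a, ha, c, hc, rfl⟩ := hx'
    obtain ⟨b, hb, d, hd, rfl⟩ := hy'
    have hcb : Commute c (b * d) :=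
      (Subgroup.mem_centralizer_iff.1 hc.2 _ (L.mul_mem (h.A_le hb) hd.1)).symm
    have hda : Commute d a⁻¹ := (Subgroup.mem_centralizer_iff.1 hd.2 _ (L.inv_mem (h.A_le ha))).symm
    show (a * c) * (b * d) * (a * c)⁻¹ * (b * d)⁻¹ ∈ Subgroup.zpowers z
    rw [show (a * c) * (b * d) * (a * c)⁻¹ * (b * d)⁻¹ = a * (c * (b * d)) * c⁻¹ * a⁻¹ * d⁻¹ * b⁻¹ by group,
      hcb.eq, show a * (b * d * c) * c⁻¹ * a⁻¹ * d⁻¹ * b⁻¹ = a * b * (d * a⁻¹) * d⁻¹ * b⁻¹ by group, hda.eq,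
      show a * b * (a⁻¹ * d) * d⁻¹ * b⁻¹ = a * b * a⁻¹ * b⁻¹ by group]
    rcases h.A_derived a ha b hb with e | e <;> rw [e]
    · exact one_mem _
    · exact Subgroup.mem_zpowers z
  have hz2 : orderOf z ≤ 2 := Nat.le_of_dvd (by norm_num) (orderOf_dvd_of_pow_eq_one (h.elementary.2 z h.z_mem))
  have := Nat.le_of_dvd Nat.card_pos (Subgroup.card_dvd_of_le (hder.trans hle))
  rw [h.card_E, Nat.card_zpowers] at this
  omega

theorem isSpecial (hl : Locals G) : Cfsg.IsSpecial 2 ↥L ∧ Nat.card (Subgroup.center ↥L) = 8 ∧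
    Subgroup.normalizer (L : Set G) = 𝓜 := by
  haveI : Fact (Nat.Prime 2) := ⟨Nat.prime_two⟩
  obtain ⟨hcomm, hsq, hder, hcen⟩ := h.structure_L hl
  have hEL : E ≤ L := h.E_le.trans h.A_le
  have hEc : ∀ e ∈ E, ∀ y ∈ L, e * y = y * e := fun e he y hy =>
    Subgroup.mem_centralizer_iff.1 (h.L_le hy) e he
  have hcenter : Subgroup.center L = E.subgroupOf L := by
    ext x
    rw [Subgroup.mem_center_iff, Subgroup.mem_subgroupOf]
    exact ⟨fun hx => hcen x x.2 fun y hy => (congrArg Subtype.val (hx ⟨y, hy⟩)).symm,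
      fun hx y => Subtype.ext (hEc x hx y y.2).symm⟩
  have hc : commutator L = E.subgroupOf L := by
    refine le_antisymm ?_ fun x hx => ?_
    · rw [commutator_def, Subgroup.commutator_le]
      exact fun x _ y _ => hcomm x x.2 y y.2
    · have hx' : (x : G) ∈ (commutator L).map L.subtype := by
        rw [Subgroup.map_subtype_commutator]; exact hder hx
      obtain ⟨y, hy, e⟩ := hx'
      rwa [← Subtype.ext (show (y : G) = x from e)]
  refine ⟨⟨h.L_two, ?_, hc.trans hcenter.symm⟩, ?_, ?_⟩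
  · refine le_antisymm ?_ ?_
    · rw [hcenter]
      exact CfsgLib.PGroup.frattini_le_of (p := 2) _ hc.le fun x => by rw [pow_two]; exact hsq x x.2
    · rw [hcenter, ← hc]
      exact CfsgLib.PGroup.commutator_le_frattini h.L_two
  · rw [hcenter, Nat.card_congr (Subgroup.subgroupOfEquivOfLe hEL).toEquiv, h.card_E]
  · refine le_antisymm (fun n hn => Subgroup.mem_normalizer_fintype fun e he => ?_)
      (fun m hm => Subgroup.mem_normalizer_fintype fun l hl' => h.L_conj hl m hm l hl')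
    refine hcen _ ((Subgroup.mem_normalizer_iff.1 hn e).1 (hEL he)) fun y hy => ?_
    have hy' := (Subgroup.mem_normalizer_iff''.1 hn y).1 hy
    calc n * e * n⁻¹ * y = n * (e * (n⁻¹ * y * n)) * n⁻¹ := by group
      _ = n * ((n⁻¹ * y * n) * e) * n⁻¹ := by rw [hEc e he _ hy']
      _ = y * (n * e * n⁻¹) := by group

theorem quotient (hl : Locals G) (N : Subgroup G) (hN : N = 𝓜) [(L.subgroupOf N).Normal] :
    Nonempty (↥N ⧸ L.subgroupOf N ≃* Equiv.Perm (Fin 5) × Matrix.SpecialLinearGroup (Fin 3) (ZMod 2)) := by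
  classical
  subst hN
  obtain ⟨D, hDM, hLD, hDC, hDn, -, hDs⟩ := h.exists_D hl
  obtain ⟨S, I, Q, hi⟩ := h.exists_inner hl
  obtain ⟨e⟩ := hi.iso
  obtain ⟨Mx, hs, hMx, -⟩ := h.exists_mx
  haveI : (D.subgroupOf 𝓜).Normal := ⟨fun d hd m => hDn m m.2 d hd⟩
  let ι : I →* 𝓜 ⧸ D.subgroupOf 𝓜 :=
    (QuotientGroup.mk' _).comp (Subgroup.inclusion (hi.I_le.trans (Subgroup.centralizer_le_normalizer _)))
  have hinj : Function.Injective ι := by
    rw [← MonoidHom.ker_eq_bot_iff, Subgroup.eq_bot_iff_forall]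
    intro i hi'
    have hiD : (i : G) ∈ D := Subgroup.mem_subgroupOf.1 ((QuotientGroup.eq_one_iff
      (Subgroup.inclusion (hi.I_le.trans (Subgroup.centralizer_le_normalizer (E : Set G))) i)).1 hi')
    have hiL : (i : G) ∈ L ⊓ I := ⟨hDC.le ⟨hiD, hi.I_le i.2⟩, i.2⟩
    rw [inf_eq_bot_of_two e h.L_two (fun i' hi'' l hlL => h.L_normal i' (hi.I_le hi'') l hlL), Subgroup.mem_bot] at hiL
    exact Subtype.ext hiL
  have hsurj : Function.Surjective ι := by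
    intro x
    obtain ⟨⟨m, hm⟩, rfl⟩ := QuotientGroup.mk'_surjective _ x
    obtain ⟨d, hd, hmd⟩ := hDs m hm
    have hIL : I ≤ Subgroup.normalizer (L : Set G) := fun i hi' =>
      Subgroup.mem_normalizer_fintype fun x hx => h.L_normal i (hi.I_le hi') x hx
    have hc' : m * d⁻¹ ∈ (↑(L ⊔ I) : Set G) := by rw [h.L_sup hl hi.I_le e]; exact hmd
    rw [Subgroup.coe_mul_of_right_le_normalizer_left L I hIL] at hc'
    obtain ⟨l, hlL, i, hi', hli⟩ := hc'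
    refine ⟨⟨i, hi'⟩, (QuotientGroup.eq).2 ?_⟩
    show i⁻¹ * m ∈ D
    have hm' : m = l * i * d := by rw [show l * i = m * d⁻¹ from hli, inv_mul_cancel_right]
    rw [show i⁻¹ * m = (i⁻¹ * l * i⁻¹⁻¹) * d by rw [hm']; group]
    exact mul_mem (hLD (h.L_normal _ ((𝓒).inv_mem (hi.I_le hi')) l hlL)) hd
  let eI : 𝓜 ⧸ D.subgroupOf 𝓜 ≃* Equiv.Perm (Fin 5) := (MulEquiv.ofBijective ι ⟨hinj, hsurj⟩).symm.trans e
  let Ψ : 𝓜 →* Equiv.Perm (Fin 5) × Matrix.SpecialLinearGroup (Fin 3) (ZMod 2) :=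
    (eI.toMonoidHom.comp (QuotientGroup.mk' _)).prod Mx
  have hΨ : Function.Surjective Ψ := by
    rintro ⟨σ, y⟩
    obtain ⟨m₁, hm₁⟩ := QuotientGroup.mk'_surjective _ (eI.symm σ)
    obtain ⟨⟨m₂, hm₂⟩, e₂⟩ := hs ((Mx m₁)⁻¹ * y)
    obtain ⟨d, hd, hmd⟩ := hDs m₂ hm₂
    refine ⟨m₁ * ⟨d, hDM hd⟩, Prod.ext ?_ ?_⟩
    · show eI (QuotientGroup.mk' _ (m₁ * ⟨d, hDM hd⟩)) = σ
      rw [map_mul, show QuotientGroup.mk' (D.subgroupOf 𝓜) ⟨d, hDM hd⟩ = 1 from (QuotientGroup.eq_one_iff _).2 hd,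
        mul_one, hm₁, MulEquiv.apply_symm_apply]
    · show Mx (m₁ * ⟨d, hDM hd⟩) = y
      have h2 : Mx (⟨m₂, hm₂⟩ * ⟨d, hDM hd⟩⁻¹) = 1 := (hMx _).2 hmd
      rw [map_mul, map_inv, mul_inv_eq_one, e₂] at h2
      rw [map_mul, ← h2, mul_inv_cancel_left]
  have hker : Ψ.ker = L.subgroupOf 𝓜 := by
    ext m
    rw [MonoidHom.mem_ker, Subgroup.mem_subgroupOf]
    constructor
    · intro hm
      have h1 : eI (QuotientGroup.mk' _ m) = 1 := congrArg Prod.fst hm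
      rw [map_eq_one_iff _ eI.injective] at h1
      exact hDC.le ⟨(QuotientGroup.eq_one_iff m).1 h1, (hMx m).1 (congrArg Prod.snd hm)⟩
    · intro hm
      have h' : (m : G) ∈ D ⊓ 𝓒 := hDC.ge hm
      refine Prod.ext ?_ ((hMx m).2 h'.2)
      show eI (QuotientGroup.mk' _ m) = 1
      rw [show QuotientGroup.mk' (D.subgroupOf 𝓜) m = 1 from (QuotientGroup.eq_one_iff _).2 h'.1, map_one]
  exact ⟨(QuotientGroup.quotientMulEquivOfEq hker.symm).trans (QuotientGroup.quotientKerEquivOfSurjective Ψ hΨ)⟩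

theorem no_complement (hl : Locals G) :
    ∀ K : Subgroup ↥𝓜, ¬ (L.subgroupOf 𝓜).IsComplement' K := by
  classical
  intro K hK
  haveI : Fact (Nat.Prime 5) := ⟨by norm_num⟩
  obtain ⟨S, I, Q, hi⟩ := h.exists_inner hl
  have hLM : L ≤ 𝓜 := h.L_le.trans (Subgroup.centralizer_le_normalizer _)
  have hLn := h.L_conj hl
  have hKc : 5 ∣ Nat.card K := by
    have hm := hK.card_mul_card
    rw [Nat.card_congr (Subgroup.subgroupOfEquivOfLe hLM).toEquiv, h.card_L hl, h.card_M, h.card_C] at hm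
    omega
  obtain ⟨⟨⟨x, hxM⟩, hxK⟩, hx⟩ := exists_prime_orderOf_dvd_card' (G := K) 5 hKc
  rw [← Subgroup.orderOf_coe, ← Subgroup.orderOf_coe] at hx
  obtain ⟨g, hg, hgQ⟩ := conj_of_card 𝓜 (fun hd => hl.five (hd.trans (Subgroup.card_subgroup_dvd_card _)))
    (Subgroup.zpowers_le.2 hxM) ((hi.Q_le.trans hi.I_le).trans (Subgroup.centralizer_le_normalizer _))
    (by rw [Nat.card_zpowers]; exact hx) hi.card_Q
  set K' := (K.map (𝓜).subtype).map (MulAut.conj g).toMonoidHom with hK'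
  have hQK : Q ≤ K' := by
    rw [← hgQ]
    refine Subgroup.map_mono (Subgroup.zpowers_le.2 ⟨⟨x, hxM⟩, hxK, rfl⟩)
  have hdisj : L ⊓ K' = ⊥ := by
    rw [Subgroup.eq_bot_iff_forall]
    rintro y ⟨hyL, hyK⟩
    have hyK' : y ∈ K' := hyK
    rw [hK', mem_map_conj] at hyK'
    obtain ⟨k, hk, hk'⟩ := hyK'
    have hk'' : (k : G) = g⁻¹ * y * g := hk'
    have hkL : k ∈ L.subgroupOf 𝓜 ⊓ K := ⟨by
      show (k : G) ∈ L
      rw [hk'']
      simpa using hLn _ ((𝓜).inv_mem hg) y hyL, hk⟩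
    rw [hK.disjoint.eq_bot, Subgroup.mem_bot] at hkL
    rw [hkL, OneMemClass.coe_one] at hk''
    calc y = g * (g⁻¹ * y * g) * g⁻¹ := by group
      _ = 1 := by rw [← hk'']; group
  have hdec : ∀ m ∈ 𝓜, ∃ l ∈ L, ∃ k ∈ K', m = l * k := by
    intro m hm
    have hm' : g⁻¹ * m * g ∈ 𝓜 := (𝓜).mul_mem ((𝓜).mul_mem ((𝓜).inv_mem hg) hm) hg
    obtain ⟨⟨⟨⟨l, hlM⟩, hlL⟩, ⟨⟨k, hkM⟩, hkK⟩⟩, hlk⟩ := hK.2 ⟨_, hm'⟩
    refine ⟨g * l * g⁻¹, hLn g hg l hlL, g * k * g⁻¹, ⟨k, ⟨⟨k, hkM⟩, hkK, rfl⟩, rfl⟩, ?_⟩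
    have hlk' : l * k = g⁻¹ * m * g := congrArg Subtype.val hlk
    rw [show g * l * g⁻¹ * (g * k * g⁻¹) = g * (l * k) * g⁻¹ by group, hlk']
    group
  obtain ⟨J, hJ, EJ, hEn, hEe, h8, -, hno⟩ := hl.five_cent Q hi.card_Q
  set X := EJ.map J.subtype with hX
  have hX8 : Nat.card X = 8 :=
    (Nat.card_congr (Subgroup.equivMapOfInjective EJ _ J.subtype_injective).toEquiv).symm.trans h8
  have hXE : X = E := by
    refine Subgroup.eq_of_le_of_card_ge ?_ (by rw [hX8, h.card_E])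
    refine hi.small X ((Subgroup.map_subtype_le EJ).trans hJ.2.1) ?_ hX8.le ?_
    · rintro _ ⟨a, ha, rfl⟩
      rw [← pow_two, ← map_pow, hEe.2 a ha, map_one]
    · rintro c hc _ ⟨a, ha, rfl⟩
      have hQJ : J ≤ Subgroup.normalizer (Q : Set G) := fun b hb => Subgroup.centralizer_le_normalizer _
        (Subgroup.mem_centralizer_iff.2 fun q hq => hJ.2.2.1 q hq b hb)
      have hc' : c ∈ (↑(Q ⊔ J) : Set G) := by rw [hJ.2.2.2.2]; exact hc
      rw [Subgroup.coe_mul_of_right_le_normalizer_left Q J hQJ] at hc'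
      obtain ⟨q, hq, b, hb, rfl⟩ := hc'
      refine ⟨⟨b, hb⟩ * a * ⟨b, hb⟩⁻¹, hEn.conj_mem a ha ⟨b, hb⟩, ?_⟩
      show b * (a : G) * b⁻¹ = q * b * (a : G) * (q * b)⁻¹
      have hcm : q * (b * a * b⁻¹) = (b * a * b⁻¹) * q :=
        hJ.2.2.1 q hq _ (J.mul_mem (J.mul_mem hb a.2) (J.inv_mem hb))
      rw [show q * b * (a : G) * (q * b)⁻¹ = q * (b * a * b⁻¹) * q⁻¹ by group, hcm, mul_inv_cancel_right]
  refine hno ((K' ⊓ J).subgroupOf J) (Subgroup.isComplement'_of_disjoint_and_mul_eq_univ ?_ ?_)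
  · rw [Subgroup.disjoint_def]
    intro j hj hj'
    have : (j : G) ∈ L ⊓ K' :=
      ⟨(h.E_le.trans h.A_le) (hXE ▸ ⟨j, hj, rfl⟩), hj'.1⟩
    rw [hdisj, Subgroup.mem_bot] at this
    exact Subtype.ext this
  · rw [Set.eq_univ_iff_forall]
    rintro ⟨j, hj⟩
    obtain ⟨l, hlL, k, hk, hjlk⟩ := hdec j (hi.cent_le (hJ.2.1 hj))
    have hlE : l ∈ E := hi.cent_L l hlL fun q hq => by
      have hqj : q * j = j * q := hJ.2.2.1 q hq j hj
      have hfix : q * j * q⁻¹ = j := by rw [hqj, mul_inv_cancel_right]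
      rw [hjlk, show q * (l * k) * q⁻¹ = (q * l * q⁻¹) * (q * k * q⁻¹) by group] at hfix
      have hmem : l⁻¹ * (q * l * q⁻¹) ∈ L ⊓ K' := ⟨L.mul_mem (L.inv_mem hlL)
        (h.L_normal q (hi.I_le (hi.Q_le hq)) l hlL), by
          rw [show l⁻¹ * (q * l * q⁻¹) = k * (q * k * q⁻¹)⁻¹ by
            rw [eq_mul_inv_iff_mul_eq, mul_assoc, hfix, inv_mul_cancel_left]]
          exact K'.mul_mem hk (K'.inv_mem (K'.mul_mem (K'.mul_mem (hQK hq) hk) (K'.inv_mem (hQK hq))))⟩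
      rw [hdisj, Subgroup.mem_bot, inv_mul_eq_one, eq_comm, mul_inv_eq_iff_eq_mul] at hmem
      exact hmem
    obtain ⟨a, ha, hal⟩ := (hXE ▸ hlE : l ∈ X)
    have hkJ : k ∈ J := by
      rw [show k = l⁻¹ * j by rw [hjlk, inv_mul_cancel_left], ← hal]
      exact J.mul_mem (J.inv_mem a.2) hj
    exact ⟨a, ha, ⟨k, hkJ⟩, ⟨hk, hkJ⟩, Subtype.ext (by
      show (a : G) * k = j
      rw [hjlk, ← hal]; rfl)⟩

theorem normalizers (hl : Locals G) : ∃ (Q : Sylow 5 G) (S : Sylow 7 G),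
    Subgroup.normalizer ((Q : Subgroup G) : Set G) ≤ 𝓜 ∧ Subgroup.normalizer ((S : Subgroup G) : Set G) ≤ 𝓜 := by
  classical
  haveI : Fact (Nat.Prime 5) := ⟨by norm_num⟩
  haveI : Fact (Nat.Prime 7) := ⟨by norm_num⟩
  obtain ⟨S, I, Q, hi⟩ := h.exists_inner hl
  obtain ⟨e⟩ := hi.iso
  have hfac : ∀ p, p.Prime → ¬ p ^ 2 ∣ Nat.card G → p ∣ Nat.card G → (Nat.card G).factorization p = 1 :=
    fun p hp h2 h1 => le_antisymm
      (Nat.lt_succ_iff.1 (lt_of_not_ge fun h' => h2 ((hp.pow_dvd_iff_le_factorization Nat.card_pos.ne').2 h')))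
      ((hp.dvd_iff_one_le_factorization Nat.card_pos.ne').1 h1)
  have h5 : (Nat.card G).factorization 5 = 1 := hfac 5 Fact.out (by norm_num; exact hl.five)
    (hi.card_Q ▸ Subgroup.card_subgroup_dvd_card Q)
  have h7 : (Nat.card G).factorization 7 = 1 := hfac 7 Fact.out (by norm_num; exact hl.seven)
    (hi.card_S ▸ Subgroup.card_subgroup_dvd_card S)
  refine ⟨Sylow.ofCard Q (by rw [hi.card_Q, h5, pow_one]), Sylow.ofCard S (by rw [hi.card_S, h7, pow_one]), ?_, ?_⟩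
  · have hQ : ∀ n ∈ Subgroup.normalizer (Q : Set G), n ∈ 𝓜 := by
      intro n hn
      have hn' : ∀ x, x ∈ Q ↔ n * x * n⁻¹ ∈ Q := Subgroup.mem_normalizer_iff.1 hn
      set X := E.map (MulAut.conj n).toMonoidHom with hX
      have hEQ : ∀ e ∈ E, ∀ q ∈ Q, q * e = e * q := fun e he q hq =>
        (Subgroup.mem_centralizer_iff.1 (hi.I_le (hi.Q_le hq)) e he).symm
      have hle : X ≤ E := by
        refine hi.small X ?_ ?_ (by rw [card_map_conj, h.card_E]) ?_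
        · rintro _ ⟨e', he', rfl⟩
          refine Subgroup.mem_centralizer_iff.2 fun q hq => ?_
          have hq' : n⁻¹ * q * n ∈ Q := (hn' _).2 (by simpa [mul_assoc] using hq)
          show q * (n * e' * n⁻¹) = n * e' * n⁻¹ * q
          calc q * (n * e' * n⁻¹) = n * ((n⁻¹ * q * n) * e') * n⁻¹ := by group
            _ = n * (e' * (n⁻¹ * q * n)) * n⁻¹ := by rw [hEQ e' he' _ hq']
            _ = n * e' * n⁻¹ * q := by group
        · rintro _ ⟨e', he', rfl⟩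
          rw [← map_mul, show e' * e' = 1 by rw [← pow_two]; exact h.elementary.2 e' he', map_one]
        · rintro c hc _ ⟨e', he', rfl⟩
          have hc' : n⁻¹ * c * n ∈ 𝓜 := hi.cent_le (Subgroup.mem_centralizer_iff.2 fun q hq => by
            have hq' := (hn' q).1 hq
            calc q * (n⁻¹ * c * n) = n⁻¹ * ((n * q * n⁻¹) * c) * n := by group
              _ = n⁻¹ * (c * (n * q * n⁻¹)) * n := by rw [Subgroup.mem_centralizer_iff.1 hc _ hq']
              _ = n⁻¹ * c * n * q := by group)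
          exact ⟨(n⁻¹ * c * n) * e' * (n⁻¹ * c * n)⁻¹, (Subgroup.mem_normalizer_iff.1 hc' e').1 he',
            by simp [mul_assoc]⟩
      exact map_conj_eq_iff.1 (Subgroup.eq_of_le_of_card_ge hle (by rw [card_map_conj]))
    exact hQ
  · intro n hn
    have hn' : ∀ x, x ∈ S ↔ n * x * n⁻¹ ∈ S := Subgroup.mem_normalizer_iff.1 hn
    have hle : Q.map (MulAut.conj n).toMonoidHom ≤ I := by
      rintro _ ⟨q, hq, rfl⟩
      refine mem_right_of_pow hi.direct (x := n * q * n⁻¹) ?_ (k := 5) ?_ (by rw [hi.card_S]; norm_num)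
      · refine Subgroup.mem_centralizer_iff.2 fun s hs => ?_
        have hs' : n⁻¹ * s * n ∈ S := (hn' _).2 (by simpa [mul_assoc] using hs)
        have hqs : (n⁻¹ * s * n) * q = q * (n⁻¹ * s * n) := hi.direct.2.2.1 _ hs' q (hi.Q_le hq)
        calc s * (n * q * n⁻¹) = n * ((n⁻¹ * s * n) * q) * n⁻¹ := by group
          _ = n * (q * (n⁻¹ * s * n)) * n⁻¹ := by rw [hqs]
          _ = n * q * n⁻¹ * s := by group
      · have h5' : (⟨q, hq⟩ : Q) ^ 5 = 1 := by rw [← hi.card_Q]; exact pow_card_eq_one'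
        rw [conj_pow, show q ^ 5 = 1 from congrArg Subtype.val h5']; simp
    obtain ⟨i, hiI, hconj⟩ := conj_of_card I (fun hd => hl.five (hd.trans (Subgroup.card_subgroup_dvd_card _)))
      hle hi.Q_le (by rw [card_map_conj, hi.card_Q]) hi.card_Q
    rw [← map_conj_mul] at hconj
    have hin := map_conj_eq_iff.1 hconj
    have hQN : Subgroup.normalizer (Q : Set G) ≤ 𝓜 := by
      intro m hm
      have hcQ : Q ≤ 𝓒 := hi.Q_le.trans hi.I_le
      set X := E.map (MulAut.conj m).toMonoidHom with hX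
      have hn' : ∀ x, x ∈ Q ↔ m * x * m⁻¹ ∈ Q := Subgroup.mem_normalizer_iff.1 hm
      refine map_conj_eq_iff.1 (Subgroup.eq_of_le_of_card_ge (hi.small X ?_ ?_ (by rw [card_map_conj, h.card_E]) ?_)
        (by rw [card_map_conj]))
      · rintro _ ⟨e', he', rfl⟩
        refine Subgroup.mem_centralizer_iff.2 fun q hq => ?_
        have hq' : m⁻¹ * q * m ∈ Q := (hn' _).2 (by simpa [mul_assoc] using hq)
        show q * (m * e' * m⁻¹) = m * e' * m⁻¹ * q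
        calc q * (m * e' * m⁻¹) = m * ((m⁻¹ * q * m) * e') * m⁻¹ := by group
          _ = m * (e' * (m⁻¹ * q * m)) * m⁻¹ := by rw [Subgroup.mem_centralizer_iff.1 (hcQ hq') e' he']
          _ = m * e' * m⁻¹ * q := by group
      · rintro _ ⟨e', he', rfl⟩
        rw [← map_mul, show e' * e' = 1 by rw [← pow_two]; exact h.elementary.2 e' he', map_one]
      · rintro c hc _ ⟨e', he', rfl⟩
        have hc' : m⁻¹ * c * m ∈ 𝓜 := hi.cent_le (Subgroup.mem_centralizer_iff.2 fun q hq => by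
          have hq' := (hn' q).1 hq
          calc q * (m⁻¹ * c * m) = m⁻¹ * ((m * q * m⁻¹) * c) * m := by group
            _ = m⁻¹ * (c * (m * q * m⁻¹)) * m := by rw [Subgroup.mem_centralizer_iff.1 hc _ hq']
            _ = m⁻¹ * c * m * q := by group)
        exact ⟨(m⁻¹ * c * m) * e' * (m⁻¹ * c * m)⁻¹, (Subgroup.mem_normalizer_iff.1 hc' e').1 he',
          by simp [mul_assoc]⟩
    have := (𝓜).mul_mem ((𝓜).inv_mem ((hi.I_le.trans (Subgroup.centralizer_le_normalizer _)) hiI)) (hQN hin)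
    rwa [inv_mul_cancel_left] at this

/-- The maximal two-local. -/
theorem conclusion (hl : Locals G) :
    ∃ L : Subgroup G, Cfsg.IsSpecial 2 ↥L ∧ Nat.card ↥L = 2 ^ 15 ∧ Nat.card ↥(Subgroup.center ↥L) = 8 ∧
    Nonempty (↥(Subgroup.normalizer (L : Set G)) ⧸ L.subgroupOf (Subgroup.normalizer (L : Set G)) ≃*
      Equiv.Perm (Fin 5) × Matrix.SpecialLinearGroup (Fin 3) (ZMod 2)) ∧
    (∀ K : Subgroup ↥(Subgroup.normalizer (L : Set G)),
      ¬ (L.subgroupOf (Subgroup.normalizer (L : Set G))).IsComplement' K) ∧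
    (∃ K₁ : Subgroup G, K₁ ≤ Subgroup.normalizer (L : Set G) ∧ Nonempty (↥K₁ ≃* Equiv.Perm (Fin 5))) ∧
    (∃ K₂ : Subgroup G, K₂ ≤ Subgroup.normalizer (L : Set G) ∧
      Nonempty (↥K₂ ≃* Matrix.SpecialLinearGroup (Fin 3) (ZMod 2))) ∧
    (∃ Q : Sylow 5 G, Subgroup.normalizer ((Q : Subgroup G) : Set G) ≤ Subgroup.normalizer (L : Set G)) ∧
    (∃ S : Sylow 7 G, Subgroup.normalizer ((S : Subgroup G) : Set G) ≤ Subgroup.normalizer (L : Set G)) := by
  obtain ⟨hsp, hc, hN⟩ := h.isSpecial hl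
  obtain ⟨Q, S, hQ, hS⟩ := h.normalizers hl
  obtain ⟨S', I, Q', hi⟩ := h.exists_inner hl
  obtain ⟨-, -, -, K2, -, hK2, -, hK2e⟩ := h.exists_mx
  have hq := h.quotient hl _ hN
  have hno := h.no_complement hl
  rw [← hN] at hno hK2 hQ hS
  exact ⟨L, hsp, h.card_L hl, hc, hq, hno,
    ⟨I, (hi.I_le.trans (Subgroup.centralizer_le_normalizer _)).trans hN.ge, hi.iso⟩,
    ⟨K2, hK2, hK2e⟩, ⟨Q, hQ⟩, ⟨S, hS⟩⟩

end Pieces

end CfsgLib.J4Type.MaxLocal
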