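import Cfsg.Agent.Lib.J4Type.MaxLocal.Data
import Cfsg.Agent.Lib.J4Type.StabWords
import Cfsg.Agent.Lib.J4Type.VCode

/-!
The kernel checks of the certificates for the special subgroup of order `2^15`.
-/

set_option autoImplicit false
set_option maxRecDepth 100000
set_option maxHeartbeats 4000000
set_option Elab.async false

namespace CfsgLib.J4Type.MaxLocal

/-- The code of a vector in the polar of the line. -/
def inPerp (n : ℕ) : Bool := !Nat.testBit n 6 && !Nat.testBit n 7

/-- The codes of the subgroup of order eight in `V`. -/
def eCodes : List ℕ := [0, 1, 2, 3, 64, 65, 66, 67]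

/-- No entry occurs twice. -/
def distinct : List ℕ → Bool
  | [] => true
  | x :: xs => xs.all (fun y => !Nat.beq x y) && distinct xs

theorem polar_check : ((List.range 4096).all fun n =>
    (qn (Nat.xor n 1) == xor (qn n) (Nat.testBit n 7)) &&
    (qn (Nat.xor n 2) == xor (qn n) (Nat.testBit n 6))) = true := by
  decide +kernel

theorem pair_start : Nat.beq (get pairT 0) (4096 + 2) = true := by decide +kernel

theorem pair_closed : ((List.range 1386).all fun k => (List.range 8).all fun j =>
    Nat.ble (get pairNext k / 2 ^ (11 * j) % 2048 + 1) 1386 &&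
      Nat.beq (get pairT (get pairNext k / 2 ^ (11 * j) % 2048))
        (app (genCols j) (get pairT k / 4096) * 4096 + app (genCols j) (get pairT k % 4096))) = true := by
  decide +kernel

theorem pair_reach : ((List.range 1386).all fun k => Nat.beq k 0 ||
    (Nat.ble (get pairPar k / 8 + 1) k &&
      Nat.beq (get pairNext (get pairPar k / 8) / 2 ^ (11 * (get pairPar k % 8)) % 2048) k)) = true := by
  decide +kernel

theorem pair_distinct : distinct ((List.range 1386).map (get pairT)) = true := by decide +kernel

theorem pol_check : ((List.range 16).all fun i =>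
    (polWords.getD i []).all (fun j => Nat.ble (j + 1) 8) &&
    Nat.beq (appW (polWords.getD i []) 1) 1 && Nat.beq (appW (polWords.getD i []) 2) 2 &&
    ((List.range 12).all fun k => !inPerp (2 ^ k) || Nat.ble (delW (polWords.getD i []) (2 ^ k) + 1) 4) &&
    ((List.range 16).all fun i' => Nat.beq i i' ||
      (List.range 12).any fun k => !Nat.beq (appW (polWords.getD i []) (2 ^ k))
        (appW (polWords.getD i' []) (2 ^ k)))) = true := by
  decide +kernel

theorem pol_moves : ((List.range 16).any fun i => (List.range 12).any fun k =>
    inPerp (2 ^ k) && !Nat.beq (delW (polWords.getD i []) (2 ^ k)) 0) = true := by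
  decide +kernel

theorem lGen_check : (lGen.all fun g => (g.length == 11) && g.all (fun c => Nat.ble (c + 1) 2048) &&
    eCodes.all (fun e => eCodes.contains (app g e))) = true := by
  decide +kernel

theorem lGen_inj : (lGen.all fun g => (List.range 2048).all fun v =>
    Nat.beq v 0 || !Nat.beq (app g v) 0) = true := by
  decide +kernel

theorem lGen_nc : (lGen.all fun g => (List.range 2048).all fun v =>
    VCode.isNc 2 true (app g v) == VCode.isNc 2 true v) = true := by
  decide +kernel

theorem lEls_check : (Nat.beq lEls.length 168 && (lEls.getD 0 [] == (List.range 11).map (2 ^ ·)) &&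
    (List.range 168).all fun k => (lEls.getD k []).length == 11 && (List.range 2).all fun j =>
      Nat.ble (lNext.getD k 0 / 256 ^ j % 256 + 1) 168 &&
      ((lEls.getD k []).map (app (lGen.getD j [])) == lEls.getD (lNext.getD k 0 / 256 ^ j % 256) [])) = true := by
  decide +kernel

theorem lEls_reach : ((List.range 168).all fun k => Nat.beq k 0 ||
    (Nat.ble (lPar.getD k 0 / 2 + 1) k &&
      Nat.beq (lNext.getD (lPar.getD k 0 / 2) 0 / 256 ^ (lPar.getD k 0 % 2) % 256) k)) = true := by
  decide +kernel

theorem lEls_act : distinct ((List.range 168).map fun k =>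
    app (lEls.getD k []) 64 + 2048 * app (lEls.getD k []) 1 + 2048 * 2048 * app (lEls.getD k []) 2) = true := by
  decide +kernel

end CfsgLib.J4Type.MaxLocal
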