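import Cfsg.Agent.Lib.J4Type.MaxLocal.Groups
import Cfsg.Agent.Lib.J4Type.FiveQuot
import Cfsg.Agent.Lib.J4Type.FiveLocal
import Cfsg.Agent.Lib.PGroup.Frattini

/-!
The maximal two-local `2^{3+12}.(S₅ × L₃(2))` from the subgroup of order eight, its centraliser and the five- and
seven-local data.
-/

set_option autoImplicit false
set_option linter.unusedSectionVars false
set_option maxRecDepth 20000

namespace CfsgLib.J4Type.MaxLocal

open CfsgLib.ThreeTrans.Torsion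
open scoped commutatorElement

universe u

variable {G : Type u} [Group G]

/-- What is used about the subgroup of order eight. -/
structure Pieces (z : G) (E L A : Subgroup G) : Prop where
  elementary : Cfsg.IsElementaryAbelian 2 E
  card_E : Nat.card E = 8
  card_C : Nat.card (Subgroup.centralizer (E : Set G)) = 2 ^ 15 * 120
  L_le : L ≤ Subgroup.centralizer (E : Set G)
  L_normal : ∀ c ∈ Subgroup.centralizer (E : Set G), ∀ l ∈ L, c * l * c⁻¹ ∈ L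
  L_two : IsPGroup 2 L
  L_ge : 2 ^ 15 ≤ Nat.card L
  E_le : E ≤ A
  A_le : A ≤ L
  card_A : Nat.card A = 2 ^ 11
  A_normal : ∀ c ∈ Subgroup.centralizer (E : Set G), ∀ a ∈ A, c * a * c⁻¹ ∈ A
  A_comm : ∀ l ∈ L, ∀ a ∈ A, l * a * l⁻¹ * a⁻¹ ∈ E
  A_sq : ∀ a ∈ A, a * a ∈ E
  A_central : ∀ a ∈ A, (∀ b ∈ A, a * b = b * a) → a ∈ E
  z_mem : z ∈ E
  z_ne : z ≠ 1
  A_derived : ∀ a ∈ A, ∀ b ∈ A, a * b * a⁻¹ * b⁻¹ = 1 ∨ a * b * a⁻¹ * b⁻¹ = z
  exists_k : ∃ K2 : Subgroup G, Nat.card K2 = 168 ∧ K2 ≤ Subgroup.normalizer (E : Set G) ∧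
    ∀ k ∈ K2, (∀ e ∈ E, k * e = e * k) → k = 1

/-- The five- and seven-local data. -/
structure Locals (G : Type u) [Group G] : Prop where
  five : ¬ 25 ∣ Nat.card G
  seven : ¬ 49 ∣ Nat.card G
  five_cent : ∀ Q : Subgroup G, Nat.card Q = 5 → ∃ J : Subgroup G,
    Cfsg.IsInternalDirectProduct Q J (Subgroup.centralizer (Q : Set G)) ∧ NonsplitEight J
  seven_cent : ∀ S : Subgroup G, Nat.card S = 7 → ∃ I : Subgroup G,
    Cfsg.IsInternalDirectProduct S I (Subgroup.centralizer (S : Set G)) ∧ Nonempty (↥I ≃* Equiv.Perm (Fin 5))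

variable [Finite G]

theorem card_direct {A B T : Subgroup G} (h : Cfsg.IsInternalDirectProduct A B T) :
    Nat.card T = Nat.card A * Nat.card B := by
  classical
  obtain ⟨-, -, hc, hAB, rfl⟩ := h
  have hB : B ≤ Subgroup.normalizer (A : Set G) := fun b hb => Subgroup.centralizer_le_normalizer _
    (Subgroup.mem_centralizer_iff.2 fun a ha => hc a ha b hb)
  rw [← Nat.card_prod]
  refine (Nat.card_eq_of_bijective (fun p : A × B => (⟨(p.1 : G) * p.2,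
    mul_mem (Subgroup.mem_sup_left p.1.2) (Subgroup.mem_sup_right p.2.2)⟩ : (A ⊔ B : Subgroup G))) ⟨?_, ?_⟩).symm
  · rintro ⟨a, b⟩ ⟨a', b'⟩ e
    have e' : (a : G) * b = a' * b' := congrArg Subtype.val e
    have hmem : (a' : G)⁻¹ * a ∈ A ⊓ B := ⟨A.mul_mem (A.inv_mem a'.2) a.2, by
      rw [show (a' : G)⁻¹ * a = b' * (b : G)⁻¹ by rw [inv_mul_eq_iff_eq_mul, ← mul_assoc, ← e', mul_inv_cancel_right]]
      exact B.mul_mem b'.2 (B.inv_mem b.2)⟩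
    rw [hAB, Subgroup.mem_bot, inv_mul_eq_one] at hmem
    obtain rfl : a' = a := Subtype.ext hmem
    rw [mul_left_cancel (show (a' : G) * b = a' * b' from e') |> Subtype.ext]
  · rintro ⟨x, hx⟩
    have hx' : x ∈ (↑(A ⊔ B) : Set G) := hx
    rw [Subgroup.coe_mul_of_right_le_normalizer_left A B hB] at hx'
    obtain ⟨a, ha, b, hb, rfl⟩ := hx'
    exact ⟨(⟨a, ha⟩, ⟨b, hb⟩), rfl⟩

namespace Pieces

variable {z : G} {E L A : Subgroup G} (h : Pieces z E L A)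

local notation "𝓒" => Subgroup.centralizer (E : Set G)
local notation "𝓜" => Subgroup.normalizer (E : Set G)

include h

theorem L_card_pow : ∃ n, Nat.card L = 2 ^ n :=
  haveI : Fact (Nat.Prime 2) := ⟨Nat.prime_two⟩
  h.L_two.exists_card_eq

theorem conj_C {m : G} (hm : m ∈ 𝓜) {c : G} (hc : c ∈ 𝓒) : m * c * m⁻¹ ∈ 𝓒 := by
  rw [Subgroup.mem_centralizer_iff] at hc ⊢
  intro e he
  have he' : m⁻¹ * e * m ∈ E := (Subgroup.mem_normalizer_iff''.1 hm e).1 he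
  calc e * (m * c * m⁻¹) = m * ((m⁻¹ * e * m) * c) * m⁻¹ := by group
    _ = m * (c * (m⁻¹ * e * m)) * m⁻¹ := by rw [hc _ he']
    _ = m * c * m⁻¹ * e := by group

theorem E_le_C : E ≤ 𝓒 := (h.E_le.trans h.A_le).trans h.L_le

theorem dvd_card_C {p : ℕ} (hp : p ∣ 2 ^ 15 * 120) : p ∣ Nat.card 𝓒 := h.card_C ▸ hp

/-- The action on the subgroup of order eight. -/
theorem exists_mx : ∃ Mx : 𝓜 →* Matrix.SpecialLinearGroup (Fin 3) (ZMod 2),
    Function.Surjective Mx ∧ (∀ m, Mx m = 1 ↔ (m : G) ∈ 𝓒) ∧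
    ∃ K2 : Subgroup G, Nat.card K2 = 168 ∧ K2 ≤ 𝓜 ∧ K2 ⊓ 𝓒 = ⊥ ∧
      Nonempty (↥K2 ≃* Matrix.SpecialLinearGroup (Fin 3) (ZMod 2)) := by
  classical
  obtain ⟨Mx, hMx⟩ := FischerTwoFour.exists_matrix_hom h.elementary h.card_E
  obtain ⟨K2, hK, hKM, hKf⟩ := h.exists_k
  have hKC : K2 ⊓ 𝓒 = ⊥ := by
    rw [Subgroup.eq_bot_iff_forall]
    rintro k ⟨hk, hk'⟩
    exact hKf k hk fun e he => (Subgroup.mem_centralizer_iff.1 hk' e he).symm
  let f : K2 →* Matrix.SpecialLinearGroup (Fin 3) (ZMod 2) := Mx.comp (Subgroup.inclusion hKM)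
  have hinj : Function.Injective f := by
    rw [← MonoidHom.ker_eq_bot_iff, Subgroup.eq_bot_iff_forall]
    intro k hk
    have : (k : G) ∈ K2 ⊓ 𝓒 := ⟨k.2, (hMx _).1 hk⟩
    rw [hKC, Subgroup.mem_bot] at this
    exact Subtype.ext this
  have hbij : Function.Bijective f := (Nat.bijective_iff_injective_and_card f).2
    ⟨hinj, by rw [hK, DimThreeMax.card_sl32]⟩
  exact ⟨Mx, fun y => let ⟨k, hk⟩ := hbij.2 y; ⟨_, hk⟩, hMx, K2, hK, hKM, hKC, ⟨MulEquiv.ofBijective f hbij⟩⟩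

theorem card_M : Nat.card 𝓜 = 168 * Nat.card 𝓒 := by
  obtain ⟨Mx, hs, hMx, -⟩ := h.exists_mx
  have hk : Mx.ker = (𝓒).subgroupOf 𝓜 := by ext m; exact hMx m
  rw [Subgroup.card_eq_card_quotient_mul_card_subgroup Mx.ker,
    Nat.card_congr (QuotientGroup.quotientKerEquivOfSurjective Mx hs).toEquiv, DimThreeMax.card_sl32, hk,
    Nat.card_congr (Subgroup.subgroupOfEquivOfLe (Subgroup.centralizer_le_normalizer (E : Set G))).toEquiv]

theorem not_sq_dvd_C {p : ℕ} (hp : p = 3 ∨ p = 5) : ¬ p ^ 2 ∣ Nat.card 𝓒 := by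
  rw [h.card_C]; rcases hp with rfl | rfl <;> norm_num

/-- A subgroup of order seven and the symmetric group it centralises inside the centraliser. -/
theorem exists_SI (hl : Locals G) : ∃ S I : Subgroup G, Nat.card S = 7 ∧ S ≤ 𝓜 ∧ S ⊓ 𝓒 = ⊥ ∧
    Cfsg.IsInternalDirectProduct S I (Subgroup.centralizer (S : Set G)) ∧
    I ≤ 𝓒 ∧ Nonempty (↥I ≃* Equiv.Perm (Fin 5)) := by
  classical
  haveI : Fact (Nat.Prime 7) := ⟨by norm_num⟩
  obtain ⟨Mx, -, -, K2, hK, hKM, hKC, -⟩ := h.exists_mx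
  obtain ⟨⟨s, hsK⟩, hs⟩ := exists_prime_orderOf_dvd_card' (G := K2) 7 (by rw [hK]; norm_num)
  rw [← Subgroup.orderOf_coe] at hs
  set S := Subgroup.zpowers s with hS
  have hcS : Nat.card S = 7 := by rw [hS, Nat.card_zpowers]; exact hs
  have hSM : S ≤ 𝓜 := Subgroup.zpowers_le.2 (hKM hsK)
  have hSC : S ⊓ 𝓒 = ⊥ := le_bot_iff.1 (hKC ▸ inf_le_inf_right _ (Subgroup.zpowers_le.2 hsK))
  obtain ⟨I, hI, ⟨e⟩⟩ := hl.seven_cent S hcS
  refine ⟨S, I, hcS, hSM, hSC, hI, ?_, ⟨e⟩⟩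
  have hcI : Nat.card I = 120 := by
    rw [Nat.card_congr e.toEquiv, Nat.card_perm, Nat.card_fin]; rfl
  set D := 𝓒 ⊓ Subgroup.centralizer (S : Set G) with hD
  have hDI : D ≤ I := fun x hx => mem_right_of_pow hI hx.2 (k := 2 ^ 15 * 120) (by
      have h' := pow_card_eq_one' (G := 𝓒) (x := ⟨x, hx.1⟩)
      rw [h.card_C] at h'
      exact congrArg Subtype.val h') (by rw [hcS]; norm_num)
  have hdvd : Nat.card D ∣ 120 := hcI ▸ Subgroup.card_dvd_of_le hDI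
  have hp : ∀ p, p = 3 ∨ p = 5 → p ∣ Nat.card D := by
    intro p hp35
    haveI : Fact p.Prime := ⟨by rcases hp35 with rfl | rfl <;> norm_num⟩
    obtain ⟨⟨t, htC⟩, ht⟩ := exists_prime_orderOf_dvd_card' (G := 𝓒) p
      (h.dvd_card_C (by rcases hp35 with rfl | rfl <;> norm_num))
    rw [← Subgroup.orderOf_coe] at ht
    have hcT : Nat.card (Subgroup.zpowers t) = p := by rw [Nat.card_zpowers]; exact ht
    obtain ⟨x, hxM, hx, hxT⟩ := exists_seven (M := 𝓜) hcT (Subgroup.zpowers_le.2 htC) (h.not_sq_dvd_C hp35)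
      (Subgroup.centralizer_le_normalizer _) (fun m hm c hc => h.conj_C hm hc)
      (by rw [h.card_C]; norm_num) (by rw [h.card_M]; exact Dvd.dvd.mul_right (by norm_num) _) (by rcases hp35 with rfl | rfl <;> norm_num)
    obtain ⟨g, hg, hgS⟩ := conj_of_card 𝓜 (fun hd => hl.seven (hd.trans (Subgroup.card_subgroup_dvd_card _)))
      (Subgroup.zpowers_le.2 hxM) hSM (by rw [Nat.card_zpowers]; exact hx) hcS
    rw [← card_map_conj (Subgroup.zpowers t) g] at hcT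
    refine hcT ▸ Subgroup.card_dvd_of_le ?_
    rintro _ ⟨t', ht', rfl⟩
    refine ⟨h.conj_C hg (Subgroup.zpowers_le.2 htC ht'), Subgroup.mem_centralizer_iff.2 fun y hy => ?_⟩
    rw [← hgS] at hy
    obtain ⟨x', hx', rfl⟩ := hy
    obtain ⟨i, rfl⟩ := Subgroup.mem_zpowers_iff.1 hx'
    have hc : Commute (x ^ i) t' := (hxT t' ht').zpow_left i
    exact ((hc.map (MulAut.conj g).toMonoidHom)).eq
  have hmod : Nat.card 𝓒 ≡ Nat.card D [MOD 7] := by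
    have h' := ncard_modEq hcS (O := (𝓒 : Set G)) fun y hy a ha => h.conj_C (hSM hy) ha
    rwa [← Nat.card_coe_set_eq, show {a ∈ (𝓒 : Set G) | ∀ x ∈ S, Commute x a} = (D : Set G) by
      ext a
      simp only [hD, Set.mem_ofPred_eq, Subgroup.coe_inf, Set.mem_inter_iff, SetLike.mem_coe,
        Subgroup.mem_centralizer_iff]
      exact Iff.rfl, ← Nat.card_coe_set_eq] at h'
  rw [h.card_C] at hmod
  have h15 : 15 ∣ Nat.card D := Nat.Coprime.mul_dvd_of_dvd_of_dvd (by norm_num : Nat.Coprime 3 5)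
    (hp 3 (Or.inl rfl)) (hp 5 (Or.inr rfl))
  have hd : Nat.card D = 120 := by
    obtain ⟨j, hj⟩ := h15
    have hj8 : j ∣ 8 := Nat.dvd_of_mul_dvd_mul_left (by norm_num : 0 < 15) (show 15 * j ∣ 15 * 8 by rw [← hj]; exact hdvd)
    have := Nat.le_of_dvd (by norm_num) hj8
    have h15' := card_ne_fifteen e hDI
    rw [hj] at hmod h15' ⊢
    interval_cases j <;> first | rfl | (exfalso; revert hmod h15' hj8; norm_num [Nat.ModEq])
  have := Subgroup.eq_of_le_of_card_ge hDI (by rw [hd, hcI])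
  exact this ▸ inf_le_left

/-- A normal 2-subgroup of the centraliser has order at most `2^15`. -/
theorem card_two_le {I R : Subgroup G} (hI : I ≤ 𝓒) (e : I ≃* Equiv.Perm (Fin 5)) (hR : R ≤ 𝓒)
    (hR2 : IsPGroup 2 R) (hn : ∀ c ∈ 𝓒, ∀ r ∈ R, c * r * c⁻¹ ∈ R) :
    Nat.card R ≤ 2 ^ 15 ∧ (Nat.card R = 2 ^ 15 → R ⊔ I = 𝓒) := by
  have hb := inf_eq_bot_of_two e hR2 fun i hi r hr => hn i (hI hi) r hr
  have hcI : Nat.card I = 120 := by rw [Nat.card_congr e.toEquiv, Nat.card_perm, Nat.card_fin]; rfl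
  have hk := LocalEvenSix.card_mul_card_le R I
  rw [hb, Subgroup.card_bot, mul_one, hcI] at hk
  have hle : Nat.card ↥(R ⊔ I) ≤ 2 ^ 15 * 120 :=
    h.card_C ▸ Nat.le_of_dvd Nat.card_pos (Subgroup.card_dvd_of_le (sup_le hR hI))
  refine ⟨by omega, fun hc => Subgroup.eq_of_le_of_card_ge (sup_le hR hI) ?_⟩
  rw [h.card_C, ← hc]; exact hk

theorem card_L (hl : Locals G) : Nat.card L = 2 ^ 15 := by
  obtain ⟨S, I, -, -, -, -, hI, ⟨e⟩⟩ := h.exists_SI hl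
  exact le_antisymm (h.card_two_le hI e h.L_le h.L_two h.L_normal).1 h.L_ge

theorem L_sup {I : Subgroup G} (hl : Locals G) (hI : I ≤ 𝓒) (e : I ≃* Equiv.Perm (Fin 5)) : L ⊔ I = 𝓒 :=
  (h.card_two_le hI e h.L_le h.L_two h.L_normal).2 (h.card_L hl)

theorem L_conj (hl : Locals G) : ∀ m ∈ 𝓜, ∀ l ∈ L, m * l * m⁻¹ ∈ L := by
  classical
  intro m hm l hlL
  obtain ⟨S, I, -, -, -, -, hI, ⟨e⟩⟩ := h.exists_SI hl
  set R := L.map (MulAut.conj m).toMonoidHom with hR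
  have hRC : R ≤ 𝓒 := by rintro _ ⟨x, hx, rfl⟩; exact h.conj_C hm (h.L_le hx)
  have hRn : ∀ c ∈ 𝓒, ∀ r ∈ R, c * r * c⁻¹ ∈ R := by
    rintro c hc _ ⟨x, hx, rfl⟩
    refine ⟨(m⁻¹ * c * m) * x * (m⁻¹ * c * m)⁻¹, h.L_normal _ ?_ x hx, ?_⟩
    · simpa using h.conj_C ((𝓜).inv_mem hm) hc
    · simp [mul_assoc]
  have hLR : R ≤ Subgroup.normalizer (L : Set G) := fun r hr =>
    Subgroup.mem_normalizer_fintype fun x hx => h.L_normal r (hRC hr) x hx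
  have hs := h.card_two_le hI e (sup_le hRC h.L_le)
    (IsPGroup.to_sup_of_normal_right' (h.L_two.map _) h.L_two hLR) fun c hc x hx => by
      have hx' : x ∈ (↑(R ⊔ L) : Set G) := hx
      rw [Subgroup.coe_mul_of_left_le_normalizer_right R L hLR] at hx'
      obtain ⟨r, hr, y, hy, rfl⟩ := hx'
      show c * (r * y) * c⁻¹ ∈ _
      rw [show c * (r * y) * c⁻¹ = (c * r * c⁻¹) * (c * y * c⁻¹) by group]
      exact mul_mem (Subgroup.mem_sup_left (hRn c hc r hr)) (Subgroup.mem_sup_right (h.L_normal c hc y hy))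
  have := Subgroup.eq_of_le_of_card_ge (le_sup_right : L ≤ R ⊔ L) (hs.1.trans h.L_ge)
  rw [this]
  exact Subgroup.mem_sup_left ⟨l, hlL, rfl⟩

/-- The elements centralising the centraliser modulo `L`. -/
theorem exists_D (hl : Locals G) : ∃ D : Subgroup G, D ≤ 𝓜 ∧ L ≤ D ∧ D ⊓ 𝓒 = L ∧
    (∀ m ∈ 𝓜, ∀ d ∈ D, m * d * m⁻¹ ∈ D) ∧ (∀ d ∈ D, ∀ c ∈ 𝓒, d * c * d⁻¹ * c⁻¹ ∈ L) ∧
    ∀ m ∈ 𝓜, ∃ d ∈ D, m * d⁻¹ ∈ 𝓒 := by
  classical
  obtain ⟨S, I, hcS, hSM, hSC, hI', hI, ⟨e⟩⟩ := h.exists_SI hl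
  have hLn := h.L_conj hl
  let D : Subgroup G :=
    { carrier := {m | m ∈ 𝓜 ∧ ∀ c ∈ 𝓒, m * c * m⁻¹ * c⁻¹ ∈ L}
      one_mem' := ⟨one_mem _, fun c _ => by simp⟩
      mul_mem' := fun {m n} hm hn => ⟨mul_mem hm.1 hn.1, fun c hc => by
        rw [show m * n * c * (m * n)⁻¹ * c⁻¹ = m * (n * c * n⁻¹ * c⁻¹) * m⁻¹ * (m * c * m⁻¹ * c⁻¹) by group]
        exact mul_mem (hLn m hm.1 _ (hn.2 c hc)) (hm.2 c hc)⟩
      inv_mem' := fun {m} hm => ⟨inv_mem hm.1, fun c hc => by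
        have hc' := h.conj_C (inv_mem hm.1) hc
        have h' := L.inv_mem (hm.2 _ hc')
        rw [show m⁻¹ * c * m⁻¹⁻¹ * c⁻¹ = (m * (m⁻¹ * c * m⁻¹⁻¹) * m⁻¹ * (m⁻¹ * c * m⁻¹⁻¹)⁻¹)⁻¹ by group]
        exact h'⟩ }
  have hmem : ∀ x, x ∈ D ↔ x ∈ 𝓜 ∧ ∀ c ∈ 𝓒, x * c * x⁻¹ * c⁻¹ ∈ L := fun x => Iff.rfl
  have hLD : L ≤ D := fun l hlL => ⟨Subgroup.centralizer_le_normalizer _ (h.L_le hlL), fun c hc => by
    rw [show l * c * l⁻¹ * c⁻¹ = l * (c * l⁻¹ * c⁻¹) by group]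
    exact mul_mem hlL (h.L_normal c hc _ (L.inv_mem hlL))⟩
  have hCdec : ∀ c ∈ 𝓒, ∃ l ∈ L, ∃ i ∈ I, c = l * i := by
    intro c hc
    have hIL : I ≤ Subgroup.normalizer (L : Set G) := fun i hi =>
      Subgroup.mem_normalizer_fintype fun x hx => h.L_normal i (hI hi) x hx
    have hc' : c ∈ (↑(L ⊔ I) : Set G) := by rw [h.L_sup hl hI e]; exact hc
    rw [Subgroup.coe_mul_of_right_le_normalizer_left L I hIL] at hc'
    obtain ⟨l, hlL, i, hi, rfl⟩ := hc'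
    exact ⟨l, hlL, i, hi, rfl⟩
  have hLI := inf_eq_bot_of_two e h.L_two fun i hi l hlL => h.L_normal i (hI hi) l hlL
  have hDC : D ⊓ 𝓒 = L := by
    refine le_antisymm ?_ (le_inf hLD h.L_le)
    rintro x ⟨hxD, hxC⟩
    obtain ⟨l, hlL, i, hi, rfl⟩ := hCdec x hxC
    have hiD : i ∈ D := by simpa using mul_mem (inv_mem (hLD hlL)) hxD
    have : i = 1 := eq_one_of_central e hi fun j hj => by
      have hmem : i * j * i⁻¹ * j⁻¹ ∈ L ⊓ I :=
        ⟨((hmem i).1 hiD).2 j (hI hj), I.mul_mem (I.mul_mem (I.mul_mem hi hj) (I.inv_mem hi)) (I.inv_mem hj)⟩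
      rw [hLI, Subgroup.mem_bot, mul_inv_eq_one, mul_inv_eq_iff_eq_mul] at hmem
      exact hmem
    rw [this, mul_one]
    exact hlL
  have hDn : ∀ m ∈ 𝓜, ∀ d ∈ D, m * d * m⁻¹ ∈ D := fun m hm d hd => (hmem _).2
    ⟨mul_mem (mul_mem hm ((hmem d).1 hd).1) (inv_mem hm), fun c hc => by
      have hc' := h.conj_C (inv_mem hm) hc
      rw [show m * d * m⁻¹ * c * (m * d * m⁻¹)⁻¹ * c⁻¹ =
        m * (d * (m⁻¹ * c * m⁻¹⁻¹) * d⁻¹ * (m⁻¹ * c * m⁻¹⁻¹)⁻¹) * m⁻¹ by group]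
      exact hLn m hm _ (((hmem d).1 hd).2 _ hc')⟩
  refine ⟨D, fun x hx => ((hmem x).1 hx).1, hLD, hDC, hDn, fun d hd => ((hmem d).1 hd).2, ?_⟩
  -- the image in the linear group is everything
  obtain ⟨Mx, hs, hMx, -⟩ := h.exists_mx
  haveI := FischerTwoFour.sl32_simple
  haveI hN : ((D.subgroupOf 𝓜)).Normal := ⟨fun d hd m => hDn m m.2 d hd⟩
  have htop : (D.subgroupOf 𝓜).map Mx = ⊤ := by
    refine (hN.map Mx hs).eq_bot_or_eq_top.resolve_left fun hb => ?_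
    have hSD : S ≤ D := fun s hsS => (hmem s).2 ⟨hSM hsS, fun c hc => by
      obtain ⟨l, hlL, i, hi, rfl⟩ := hCdec c hc
      have hsi : s * i = i * s := hI'.2.2.1 s hsS i hi
      rw [show s * (l * i) * s⁻¹ * (l * i)⁻¹ = s * l * (i * s⁻¹ * i⁻¹) * l⁻¹ by group,
        show i * s⁻¹ * i⁻¹ = s⁻¹ by rw [← (Commute.inv_left hsi).eq, mul_inv_cancel_right]]
      exact mul_mem (hLn s (hSM hsS) l hlL) (L.inv_mem hlL)⟩
    have hsub : S ≤ S ⊓ 𝓒 := fun s hsS => ⟨hsS, (hMx ⟨s, hSM hsS⟩).1 (by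
      rw [← Subgroup.mem_bot, ← hb]; exact ⟨⟨s, hSM hsS⟩, hSD hsS, rfl⟩)⟩
    rw [hSC, le_bot_iff] at hsub
    rw [hsub, Subgroup.card_bot] at hcS
    norm_num at hcS
  intro m hm
  obtain ⟨d, hd, hdm⟩ := (htop ▸ Subgroup.mem_top (Mx ⟨m, hm⟩) : Mx ⟨m, hm⟩ ∈ (D.subgroupOf 𝓜).map Mx)
  refine ⟨d, hd, (hMx (⟨m, hm⟩ * d⁻¹)).1 ?_⟩
  rw [map_mul, map_inv, hdm, mul_inv_cancel]

/-- The local data around one subgroup of order five. -/
structure Inner (E L : Subgroup G) (S I Q : Subgroup G) : Prop where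
  card_Q : Nat.card Q = 5
  Q_le : Q ≤ I
  card_S : Nat.card S = 7
  direct : Cfsg.IsInternalDirectProduct S I (Subgroup.centralizer (S : Set G))
  I_le : I ≤ Subgroup.centralizer (E : Set G)
  iso : Nonempty (↥I ≃* Equiv.Perm (Fin 5))
  S_le : S ≤ Subgroup.normalizer (E : Set G)
  cent_le : Subgroup.centralizer (Q : Set G) ≤ Subgroup.normalizer (E : Set G)
  cent_L : ∀ l ∈ L, (∀ q ∈ Q, Commute q l) → l ∈ E
  small : ∀ X : Subgroup G, X ≤ Subgroup.centralizer (Q : Set G) → (∀ x ∈ X, x * x = 1) → Nat.card X ≤ 8 →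
    (∀ c ∈ Subgroup.centralizer (Q : Set G), ∀ x ∈ X, c * x * c⁻¹ ∈ X) → X ≤ E

theorem exists_inner (hl : Locals G) : ∃ S I Q : Subgroup G, Inner E L S I Q := by
  classical
  haveI : Fact (Nat.Prime 5) := ⟨by norm_num⟩
  haveI : Fact (Nat.Prime 2) := ⟨Nat.prime_two⟩
  haveI := FischerTwoFour.sl32_simple
  obtain ⟨S, I, hcS, hSM, -, hI', hI, ⟨e⟩⟩ := h.exists_SI hl
  obtain ⟨D, hDM, hLD, hDC, hDn, hDc, hDs⟩ := h.exists_D hl
  obtain ⟨⟨q, hqI⟩, hq⟩ := exists_prime_orderOf_dvd_card' (G := I) 5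
    (by rw [Nat.card_congr e.toEquiv, Nat.card_perm, Nat.card_fin]; norm_num [Nat.factorial])
  rw [← Subgroup.orderOf_coe] at hq
  set Q := Subgroup.zpowers q with hQ
  have hcQ : Nat.card Q = 5 := by rw [hQ, Nat.card_zpowers]; exact hq
  have hQI : Q ≤ I := Subgroup.zpowers_le.2 hqI
  have hQC : Q ≤ 𝓒 := hQI.trans hI
  have hQL : Q ≤ Subgroup.normalizer (L : Set G) := fun x hx =>
    Subgroup.mem_normalizer_fintype fun l hlL => h.L_normal x (hQC hx) l hlL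
  set CQ := Subgroup.centralizer (Q : Set G) with hCQ
  have hQQ : Q ≤ CQ := fun x hx => Subgroup.mem_centralizer_iff.2 fun y hy => by
    obtain ⟨i, rfl⟩ := Subgroup.mem_zpowers_iff.1 hx
    obtain ⟨j, rfl⟩ := Subgroup.mem_zpowers_iff.1 hy
    exact ((Commute.refl q).zpow_zpow j i).eq
  -- the centraliser of `Q` in `D` maps onto the linear group
  have hlift : ∀ d ∈ D, ∃ n ∈ CQ, n ∈ 𝓜 ∧ n * d⁻¹ ∈ 𝓒 := by
    intro d hd
    obtain ⟨t, ht, hconj⟩ := conj_of_card (Q ⊔ L) (fun hd => hl.five (hd.trans (Subgroup.card_subgroup_dvd_card _)))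
      (X := Q.map (MulAut.conj d).toMonoidHom) (Y := Q) (by
        rintro _ ⟨x, hx, rfl⟩
        have hl' := hDc d hd x (hQC hx)
        show d * x * d⁻¹ ∈ Q ⊔ L
        rw [show d * x * d⁻¹ = (d * x * d⁻¹ * x⁻¹) * x by group]
        exact mul_mem (Subgroup.mem_sup_right hl') (Subgroup.mem_sup_left hx))
      le_sup_left (by rw [card_map_conj, hcQ]) hcQ
    have ht' : t ∈ (↑(Q ⊔ L) : Set G) := ht
    rw [Subgroup.coe_mul_of_left_le_normalizer_right Q L hQL] at ht'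
    obtain ⟨x, hx, l, hlL, rfl⟩ := ht'
    rw [← map_conj_mul] at hconj
    have hn : x * l * d ∈ Subgroup.normalizer (Q : Set G) := map_conj_eq_iff.1 hconj
    have hn' : l * d ∈ Subgroup.normalizer (Q : Set G) := by
      simpa [mul_assoc] using mul_mem (inv_mem (Subgroup.le_normalizer hx)) hn
    have hld : l * d ∈ D := mul_mem (hLD hlL) hd
    have hQL' : Q ⊓ L = ⊥ := Subgroup.inf_eq_bot_of_coprime (by rw [hcQ, h.card_L hl]; norm_num)
    refine ⟨l * d, Subgroup.mem_centralizer_iff.2 fun y hy => ?_, hDM hld, ?_⟩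
    · have hmem : l * d * y * (l * d)⁻¹ * y⁻¹ ∈ Q ⊓ L :=
        ⟨Q.mul_mem ((Subgroup.mem_normalizer_iff.1 hn' y).1 hy) (Q.inv_mem hy), hDc _ hld y (hQC hy)⟩
      rw [hQL', Subgroup.mem_bot, mul_inv_eq_one, mul_inv_eq_iff_eq_mul] at hmem
      exact hmem.symm
    · rw [mul_inv_cancel_right]; exact h.L_le hlL
  obtain ⟨Mx, hs, hMx, -⟩ := h.exists_mx
  have hmap : ((CQ ⊓ 𝓜).subgroupOf 𝓜).map Mx = ⊤ := by
    rw [eq_top_iff]
    intro y _
    obtain ⟨⟨m, hm⟩, rfl⟩ := hs y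
    obtain ⟨d, hd, hmd⟩ := hDs m hm
    obtain ⟨n, hnQ, hnM, hnd⟩ := hlift d hd
    refine ⟨⟨n, hnM⟩, ⟨hnQ, hnM⟩, ?_⟩
    have h1 : Mx (⟨n, hnM⟩ * ⟨d, hDM hd⟩⁻¹) = 1 := (hMx _).2 hnd
    have h2 : Mx (⟨m, hm⟩ * ⟨d, hDM hd⟩⁻¹) = 1 := (hMx _).2 hmd
    rw [map_mul] at h1 h2
    exact mul_right_cancel (h1.trans h2.symm)
  obtain ⟨J, hJ, hJn⟩ := hl.five_cent Q hcQ
  have hcCQ : Nat.card CQ = 6720 := by
    obtain ⟨EJ, hn, -, h8, ⟨iso⟩, -⟩ := hJn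
    rw [card_direct hJ, hcQ, Subgroup.card_eq_card_quotient_mul_card_subgroup EJ, h8,
      Nat.card_congr iso.toEquiv, DimThreeMax.card_sl32]
  set W := CQ ⊓ 𝓒 with hW
  have hQE : Q ⊔ E ≤ W := sup_le (le_inf hQQ hQC) (le_inf (fun x hx =>
    Subgroup.mem_centralizer_iff.2 fun y hy => (Subgroup.mem_centralizer_iff.1 (hQC hy) x hx).symm) h.E_le_C)
  have h40 : 40 ∣ Nat.card W := Nat.Coprime.mul_dvd_of_dvd_of_dvd (by norm_num : Nat.Coprime 5 8)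
    (hcQ ▸ Subgroup.card_dvd_of_le (le_sup_left.trans hQE))
    (h.card_E ▸ Subgroup.card_dvd_of_le (le_sup_right.trans hQE))
  have hprod : Nat.card ↥(CQ ⊓ 𝓜) = Nat.card W * 168 := by
    rw [← Nat.card_congr (Subgroup.subgroupOfEquivOfLe (inf_le_right : CQ ⊓ 𝓜 ≤ 𝓜)).toEquiv,
      card_eq_inf_ker_mul_map Mx, hmap, Subgroup.card_top, DimThreeMax.card_sl32]
    congr 1
    exact Nat.card_congr
      { toFun := fun a => ⟨(a : 𝓜), a.2.1.1, (hMx _).1 a.2.2⟩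
        invFun := fun a => ⟨⟨a.1, Subgroup.centralizer_le_normalizer _ a.2.2⟩,
          ⟨a.2.1, Subgroup.centralizer_le_normalizer _ a.2.2⟩, (hMx _).2 a.2.2⟩
        left_inv := fun a => rfl
        right_inv := fun a => rfl }
  have hWc : Nat.card W = 40 := by
    have hle : Nat.card ↥(CQ ⊓ 𝓜) ≤ 6720 := hcCQ ▸ Nat.le_of_dvd Nat.card_pos (Subgroup.card_dvd_of_le inf_le_left)
    have := Nat.le_of_dvd Nat.card_pos h40
    omega
  have hCQM : CQ ≤ 𝓜 := by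
    have := Subgroup.eq_of_le_of_card_ge (inf_le_left : CQ ⊓ 𝓜 ≤ CQ) (by rw [hcCQ, hprod, hWc])
    exact this ▸ inf_le_right
  have hEW : ∀ X : Subgroup G, X ≤ W → IsPGroup 2 X → X ≤ E := by
    intro X hX hX2
    have hn : X ≤ Subgroup.normalizer (E : Set G) :=
      (hX.trans inf_le_right).trans (Subgroup.centralizer_le_normalizer _)
    have h2 : IsPGroup 2 ↥(X ⊔ E) := IsPGroup.to_sup_of_normal_right' hX2
      (IsPGroup.of_card (n := 3) h.card_E) hn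
    obtain ⟨n, hn⟩ := h2.exists_card_eq
    have hd : 2 ^ n ∣ 40 := by
      rw [← hn, ← hWc]
      exact Subgroup.card_dvd_of_le (sup_le hX (le_sup_right.trans hQE))
    have hn3 : n ≤ 3 := by
      by_contra hlt
      have : 16 ∣ 40 := (pow_dvd_pow 2 (by omega : 4 ≤ n)).trans hd
      norm_num at this
    have := Subgroup.eq_of_le_of_card_ge (le_sup_right : E ≤ X ⊔ E)
      (by rw [hn, h.card_E]; exact Nat.pow_le_pow_right (by norm_num : 0 < 2) hn3)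
    exact this ▸ le_sup_left
  refine ⟨S, I, Q, hcQ, hQI, hcS, hI', hI, ⟨e⟩, hSM, hCQM, fun l hlL hlq => ?_, fun X hX hX1 hX8 hXn => ?_⟩
  · refine hEW (L ⊓ CQ) (le_inf inf_le_right (inf_le_left.trans h.L_le)) h.L_two.to_inf_left ⟨hlL, ?_⟩
    exact Subgroup.mem_centralizer_iff.2 fun y hy => (hlq y hy).eq
  · have hXM := hX.trans hCQM
    have hX2 : IsPGroup 2 X := fun x => ⟨1, Subtype.ext (by rw [pow_one, Subgroup.coe_pow, pow_two]; exact hX1 x x.2)⟩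
    refine hEW X (le_inf hX fun x hx => (hMx ⟨x, hXM hx⟩).1 ?_) hX2
    have hN : ((X.subgroupOf 𝓜).map Mx).Normal := ⟨fun y hy g => by
      obtain ⟨a, ha, rfl⟩ := hy
      obtain ⟨c, hc, rfl⟩ := (hmap ▸ Subgroup.mem_top g : g ∈ ((CQ ⊓ 𝓜).subgroupOf 𝓜).map Mx)
      exact ⟨c * a * c⁻¹, hXn c hc.1 a ha, by simp⟩⟩
    rcases hN.eq_bot_or_eq_top with hb | ht
    · rw [← Subgroup.mem_bot, ← hb]; exact ⟨⟨x, hXM hx⟩, hx, rfl⟩
    · exfalso
      have hd := Subgroup.card_map_dvd (X.subgroupOf 𝓜) Mx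
      rw [ht, Subgroup.card_top, DimThreeMax.card_sl32,
        Nat.card_congr (Subgroup.subgroupOfEquivOfLe hXM).toEquiv] at hd
      have := Nat.le_of_dvd Nat.card_pos hd
      omega

theorem conj_mem_C {n : G} (hn : n ∈ 𝓜) : n * z * n⁻¹ ∈ E := (Subgroup.mem_normalizer_iff.1 hn z).1 h.z_mem

/-- A subgroup of `L` containing `A` properly and stable under `Q` is `L`. -/
theorem eq_L_of_lt (hl : Locals G) {S I Q : Subgroup G} (hi : Inner E L S I Q) {U : Subgroup G}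
    (hAU : A ≤ U) (hne : U ≠ A) (hUL : U ≤ L) (hQ : ∀ q ∈ Q, ∀ u ∈ U, q * u * q⁻¹ ∈ U) : U = L := by
  haveI : Fact (Nat.Prime 5) := ⟨by norm_num⟩
  haveI : Fact (Nat.Prime 2) := ⟨Nat.prime_two⟩
  obtain ⟨n, hn⟩ := (h.L_two.to_le hUL).exists_card_eq
  have h' := ncard_modEq hi.card_Q (O := (U : Set G)) hQ
  rw [show {a ∈ (U : Set G) | ∀ x ∈ Q, Commute x a} = (E : Set G) by
    ext a
    refine ⟨fun ha => hi.cent_L a (hUL ha.1) ha.2, fun ha => ⟨hAU (h.E_le ha), fun x hx => ?_⟩⟩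
    exact (Subgroup.mem_centralizer_iff.1 (hi.I_le (hi.Q_le hx)) a ha).symm,
    ← Nat.card_coe_set_eq, ← Nat.card_coe_set_eq] at h'
  change Nat.card U ≡ Nat.card E [MOD 5] at h'
  rw [hn, h.card_E] at h'
  have hlt : 2 ^ 11 < 2 ^ n := by
    rw [← hn, ← h.card_A]
    exact lt_of_le_of_ne (Nat.le_of_dvd Nat.card_pos (Subgroup.card_dvd_of_le hAU)) fun e =>
      hne (Subgroup.eq_of_le_of_card_ge hAU e.ge).symm
  have hle : 2 ^ n ≤ 2 ^ 15 := by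
    rw [← hn, ← h.card_L hl]; exact Nat.le_of_dvd Nat.card_pos (Subgroup.card_dvd_of_le hUL)
  have h11 := (Nat.pow_lt_pow_iff_right (by norm_num : 1 < 2)).1 hlt
  have h15 := (Nat.pow_le_pow_iff_right (by norm_num : 1 < 2)).1 hle
  have : n = 15 := by
    interval_cases n <;> first | rfl | (exfalso; revert h'; norm_num [Nat.ModEq])
  exact Subgroup.eq_of_le_of_card_ge hUL (by rw [h.card_L hl, hn, this])

end Pieces

end CfsgLib.J4Type.MaxLocal
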