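import Cfsg.Agent.Lib.J4Type.MaxLocal.Main
import Cfsg.Agent.Lib.J4Type.SixFoldWitness
import Cfsg.Agent.Lib.J4Type.Orbits
import Cfsg.Agent.Lib.J4Type.CentSplit
import Cfsg.Agent.Lib.J4Type.Moved
import Cfsg.Agent.Lib.J4Type.Model.Ctx
import Cfsg.Agent.Lib.J4Type.FiveMain
import Cfsg.Agent.Lib.J4Type.SevenMain

/-!
The five- and seven-local data of Janko-four type from the context, and the maximal two-local.
-/

set_option autoImplicit false

namespace CfsgLib.J4Type

universe u

variable {G : Type u} [Group G] [Finite G] [IsSimpleGroup G]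

/-- The local data at five and seven, given one class of elements of order three. -/
theorem locals_of_type (hG : ¬ IsMulCommutative G) {z : G} {P : Subgroup G} (X : Ctx z P)
    (hJ : Cfsg.IsOfJankoFourTypeWith z P) (hone : ∀ x y : G, orderOf x = 3 → orderOf y = 3 → IsConj x y) :
    MaxLocal.Locals G := by
  classical
  haveI : Fact (Nat.Prime 5) := ⟨by norm_num⟩
  haveI : Fact (Nat.Prime 7) := ⟨by norm_num⟩
  haveI : Fact (Nat.Prime 2) := ⟨Nat.prime_two⟩
  have hm := X.exists_moved hG
  have hother : ∀ i : G, orderOf i = 2 → ¬ IsConj z i → ∃ V : Subgroup G,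
      V ≤ Subgroup.centralizer ({i} : Set G) ∧ Cfsg.IsElementaryAbelian 2 V ∧ Nat.card V = 2 ^ 11 := by
    intro i hi hzi
    obtain ⟨V, _, hV, -, -, hVe, hVc, -⟩ := X.centralizer_split hm i hi hzi
    exact ⟨V, hV, hVe, hVc⟩
  have five : ∀ S : Subgroup G, Nat.card S = 5 → _ := fun S hS => five_of_locals ⟨P, hJ⟩
    (fun T => X.vg_unique' T) (fun V hV hc => X.split_normalizer hm V hV hc)
    (fun V hV hc => X.orbits_centralizer hm V hV hc) hother hS
  have seven : ∀ S : Subgroup G, Nat.card S = 7 → _ := fun S hS => seven_of_locals ⟨P, hJ⟩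
    (fun Q hQ => by
      obtain ⟨Y⟩ := exists_ctx hQ
      exact (CfsgLib.J4Type86.sixFold hQ (hasWitness Y Y.exists_norm_conj_z (Y.exists_moved hG))).2.2.2.2)
    hone ⟨X.Vg, X.Vg_elementary X.model.stabFacts, by rw [X.card_Vg X.model.stabFacts]; norm_num⟩
    (fun V hV hc => (X.split_normalizer hm V hV hc).2)
    (fun V hV hc => X.orbits_centralizer hm V hV hc) hS
  refine ⟨fun h => ?_, fun h => ?_, fun Q hQ => (five Q hQ).2.1, fun S hS => (seven S hS).2.1⟩
  · obtain ⟨x, hx⟩ := exists_prime_orderOf_dvd_card' (G := G) 5 ((dvd_mul_right 5 5).trans h)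
    exact (five (Subgroup.zpowers x) (by rw [Nat.card_zpowers, hx])).1 h
  · obtain ⟨x, hx⟩ := exists_prime_orderOf_dvd_card' (G := G) 7 ((dvd_mul_right 7 7).trans h)
    exact (seven (Subgroup.zpowers x) (by rw [Nat.card_zpowers, hx])).1 h

end CfsgLib.J4Type
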