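import Cfsg.Agent.Lib.FischerTwoFour.PlaneQuot
import Cfsg.Agent.Lib.J4Type.SevenGroup
import Cfsg.Agent.Lib.ThreeTrans.Torsion.Basic
import Cfsg.Prelude.Def_TwoFusion

/-!
Elementary group facts used for the maximal two-local with quotient `S₅ × L₃(2)`.
-/

set_option autoImplicit false
set_option maxRecDepth 20000
set_option linter.unusedSectionVars false

namespace CfsgLib.J4Type.MaxLocal

open CfsgLib.ThreeTrans.Torsion

universe u v

variable {G : Type u} [Group G]

/-- In a direct product, an element of exponent prime to the first factor lies in the second. -/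
theorem mem_right_of_pow {A B T : Subgroup G} (h : Cfsg.IsInternalDirectProduct A B T) {x : G} (hx : x ∈ T)
    {k : ℕ} (hxk : x ^ k = 1) (hk : Nat.Coprime (Nat.card A) k) : x ∈ B := by
  obtain ⟨-, -, hc, hAB, rfl⟩ := h
  have hB : B ≤ Subgroup.normalizer (A : Set G) := fun b hb => Subgroup.centralizer_le_normalizer _
    (Subgroup.mem_centralizer_iff.2 fun a ha => hc a ha b hb)
  have hx' : x ∈ (↑(A ⊔ B) : Set G) := hx
  rw [Subgroup.coe_mul_of_right_le_normalizer_left A B hB] at hx'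
  obtain ⟨a, ha, b, hb, rfl⟩ := hx'
  rw [(show Commute a b from hc a ha b hb).mul_pow] at hxk
  have hak : a ^ k ∈ A ⊓ B := ⟨A.pow_mem ha k, by
    rw [eq_inv_of_mul_eq_one_left hxk]; exact B.inv_mem (B.pow_mem hb k)⟩
  rw [hAB, Subgroup.mem_bot] at hak
  have h1 : (⟨a, ha⟩ : A) ^ k = 1 := Subtype.ext hak
  have hord : orderOf (⟨a, ha⟩ : A) ∣ Nat.gcd (Nat.card A) k :=
    Nat.dvd_gcd (orderOf_dvd_natCard _) (orderOf_dvd_of_pow_eq_one h1)
  rw [hk.gcd_eq_one, Nat.dvd_one, orderOf_eq_one_iff] at hord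
  show a * b ∈ B
  rw [show a = 1 from congrArg Subtype.val hord, one_mul]
  exact hb

theorem fifteen_facts : ∀ σ : Equiv.Perm (Fin 5), σ ^ 15 = 1 → σ ^ 5 = 1 ∨ σ ^ 3 = 1 := by
  decide +kernel

theorem perm_five_center : ∀ σ : Equiv.Perm (Fin 5), (∀ τ, σ * τ = τ * σ) → σ = 1 := by
  decide +kernel

variable [Finite G]

/-- The symmetric group of degree five has no subgroup of order fifteen. -/
theorem card_ne_fifteen {I : Subgroup G} (e : I ≃* Equiv.Perm (Fin 5)) {X : Subgroup G} (hX : X ≤ I) :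
    Nat.card X ≠ 15 := by
  intro h
  haveI : Fact (Nat.Prime 5) := ⟨by norm_num⟩
  haveI : Fact (Nat.Prime 3) := ⟨by norm_num⟩
  obtain ⟨⟨x, hxX⟩, hx⟩ := exists_prime_orderOf_dvd_card' (G := X) 5 (by rw [h]; norm_num)
  obtain ⟨⟨y, hyX⟩, hy⟩ := exists_prime_orderOf_dvd_card' (G := X) 3 (by rw [h]; norm_num)
  rw [← Subgroup.orderOf_coe] at hx hy
  have hT : Nat.card (Subgroup.zpowers x) = 5 := by rw [Nat.card_zpowers]; exact hx
  have hTX : Subgroup.zpowers x ≤ X := Subgroup.zpowers_le.2 hxX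
  obtain ⟨k, hk, hk1⟩ := card_normalizer_modEq hT hTX (by rw [h]; norm_num)
  have hk' : k = 1 := by
    have hd : k ∣ 15 := ⟨_, h.symm.trans hk⟩
    have := Nat.le_of_dvd (by norm_num) hd
    interval_cases k <;> first | rfl | (exfalso; revert hd hk1; norm_num)
  obtain ⟨c, hc, hcard⟩ := card_normalizer X hT
  rw [hk', one_mul, h] at hk
  rw [← hk] at hcard
  have hc1 : c = 1 := by
    have := Nat.le_of_dvd (by norm_num) hc
    have hd : c ∣ 15 := ⟨_, hcard.trans (mul_comm _ _)⟩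
    interval_cases c <;> first | rfl | (exfalso; revert hd hc; norm_num)
  rw [hc1, mul_one] at hcard
  have hXc : X ≤ Subgroup.centralizer (Subgroup.zpowers x : Set G) := by
    have := Subgroup.eq_of_le_of_card_ge (inf_le_right :
      Subgroup.centralizer (Subgroup.zpowers x : Set G) ⊓ X ≤ X) (by rw [h, ← hcard])
    exact this ▸ inf_le_left
  have hxy : Commute x y := Subgroup.mem_centralizer_iff.1 (hXc hyX) x (Subgroup.mem_zpowers x)
  have ho : orderOf (x * y) = 15 := by rw [hxy.orderOf_mul_eq_mul_orderOf_of_coprime (by rw [hx, hy]; norm_num), hx, hy]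
  set σ : Equiv.Perm (Fin 5) := e ⟨x * y, hX (X.mul_mem hxX hyX)⟩ with hσ
  have hσo : orderOf σ = 15 := by rw [hσ, MulEquiv.orderOf_eq, ← Subgroup.orderOf_coe]; exact ho
  rcases fifteen_facts σ (hσo ▸ pow_orderOf_eq_one σ) with h' | h' <;>
    · have := orderOf_dvd_of_pow_eq_one h'
      rw [hσo] at this
      norm_num at this

/-- A 2-subgroup normalised by a symmetric group of degree five meets it trivially. -/
theorem inf_eq_bot_of_two {I R : Subgroup G} (e : I ≃* Equiv.Perm (Fin 5)) (hR : IsPGroup 2 R)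
    (hn : ∀ i ∈ I, ∀ r ∈ R, i * r * i⁻¹ ∈ R) : R ⊓ I = ⊥ := by
  haveI hN : (R.subgroupOf I).Normal := ⟨fun r hr i => hn i i.2 r hr⟩
  have hN' : ((R.subgroupOf I).map e.toMonoidHom).Normal := hN.map _ e.surjective
  rcases eq_or_ne ((R.subgroupOf I).map e.toMonoidHom) ⊥ with h | h
  · rw [Subgroup.map_eq_bot_iff_of_injective _ e.injective, Subgroup.subgroupOf_eq_bot] at h
    exact h.eq_bot
  · exfalso
    haveI := (Subgroup.nontrivial_iff_ne_bot _).2 h
    have hle := Equiv.Perm.alternatingGroup_le_of_normal (α := Fin 5) (by simp) this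
    let ι : R.subgroupOf I →* R :=
      { toFun := fun a => ⟨((a : I) : G), a.2⟩, map_one' := rfl, map_mul' := fun _ _ => rfl }
    have hp : IsPGroup 2 ((R.subgroupOf I).map e.toMonoidHom : Subgroup (Equiv.Perm (Fin 5))) :=
      IsPGroup.map (hR.of_injective ι fun a b hab =>
        Subtype.ext (Subtype.ext (congrArg (fun r : R => (r : G)) hab))) _
    obtain ⟨n, hn'⟩ := (hp.to_le hle).exists_card_eq
    rw [nat_card_alternatingGroup, Nat.card_fin] at hn'
    have h3 : 3 ∣ 2 ^ n := by rw [← hn']; norm_num [Nat.factorial]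
    have := (Nat.prime_three.dvd_of_dvd_pow h3)
    norm_num at this

/-- A symmetric group of degree five has trivial centre. -/
theorem eq_one_of_central {I : Subgroup G} (e : I ≃* Equiv.Perm (Fin 5)) {x : G} (hx : x ∈ I)
    (h : ∀ i ∈ I, x * i = i * x) : x = 1 := by
  have := perm_five_center (e ⟨x, hx⟩) fun τ => by
    rw [← e.apply_symm_apply τ, ← map_mul, ← map_mul]
    exact congrArg e (Subtype.ext (h _ (e.symm τ).2))
  rw [map_eq_one_iff _ e.injective] at this
  exact congrArg Subtype.val this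

/-- A subgroup of order `p` of a normal subgroup is centralised by some subgroup of order seven, if the quotient
has order divisible by seven. -/
theorem exists_seven {M C T : Subgroup G} {p : ℕ} [Fact p.Prime] (hT : Nat.card T = p) (hTC : T ≤ C)
    (hp : ¬ p ^ 2 ∣ Nat.card C) (hCM : C ≤ M) (hn : ∀ m ∈ M, ∀ c ∈ C, m * c * m⁻¹ ∈ C)
    (h7 : ¬ 7 ∣ Nat.card C) (hM : 7 ∣ Nat.card M) (hp7 : ¬ 7 ∣ p - 1) :
    ∃ x ∈ M, orderOf x = 7 ∧ ∀ t ∈ T, Commute x t := by
  haveI : Fact (Nat.Prime 7) := ⟨by norm_num⟩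
  haveI : (C.subgroupOf M).Normal := ⟨fun c hc m => hn m m.2 c hc⟩
  set N := (Subgroup.normalizer (T : Set G) ⊓ M) with hN
  let f : M →* M ⧸ C.subgroupOf M := QuotientGroup.mk' _
  have hsurj : (N.subgroupOf M).map f = ⊤ := by
    rw [eq_top_iff]
    intro q _
    obtain ⟨m, rfl⟩ := QuotientGroup.mk'_surjective _ q
    obtain ⟨c, hc, hconj⟩ := conj_of_card C hp (X := T.map (MulAut.conj (m : G)).toMonoidHom) (Y := T)
      (by rintro _ ⟨t, ht, rfl⟩; exact hn m m.2 t (hTC ht)) hTC (by rw [card_map_conj, hT]) hT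
    rw [← map_conj_mul] at hconj
    refine ⟨⟨c * m, M.mul_mem (hCM hc) m.2⟩, ⟨map_conj_eq_iff.1 hconj, M.mul_mem (hCM hc) m.2⟩, ?_⟩
    show f (⟨c, hCM hc⟩ * m) = f m
    rw [map_mul, show f ⟨c, hCM hc⟩ = 1 from (QuotientGroup.eq_one_iff _).2 hc, one_mul]
  have h1 : 7 ∣ Nat.card N := by
    rw [← Nat.card_congr (Subgroup.subgroupOfEquivOfLe (inf_le_right : N ≤ M)).toEquiv,
      card_eq_inf_ker_mul_map f, hsurj, Subgroup.card_top]
    refine Dvd.dvd.mul_left ?_ _
    have := (C.subgroupOf M).card_eq_card_quotient_mul_card_subgroup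
    rw [Nat.card_congr (Subgroup.subgroupOfEquivOfLe hCM).toEquiv] at this
    rw [this] at hM
    exact ((Nat.Prime.dvd_mul (by norm_num)).1 hM).resolve_right h7
  obtain ⟨⟨x, hxN⟩, hx⟩ := exists_prime_orderOf_dvd_card' (G := N) 7 h1
  rw [← Subgroup.orderOf_coe] at hx
  refine ⟨x, hxN.2, hx, ?_⟩
  obtain ⟨c, hc, hcard⟩ := card_normalizer (Subgroup.zpowers x) hT
  have hle : Subgroup.zpowers x ≤ Subgroup.normalizer (T : Set G) := Subgroup.zpowers_le.2 hxN.1
  rw [inf_eq_right.2 hle, Nat.card_zpowers, hx] at hcard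
  have hc1 : c = 1 := (Nat.dvd_prime (by norm_num : Nat.Prime 7)).1 ⟨_, hcard.trans (mul_comm _ _)⟩ |>.resolve_right
    fun h => hp7 (h ▸ hc)
  rw [hc1, mul_one] at hcard
  have hC : Subgroup.centralizer (T : Set G) ⊓ Subgroup.zpowers x = Subgroup.zpowers x :=
    Subgroup.eq_of_le_of_card_ge inf_le_right (by rw [Nat.card_zpowers, hx, ← hcard])
  exact fun t ht => (Subgroup.mem_centralizer_iff.1 ((inf_eq_right.1 hC) (Subgroup.mem_zpowers x)) t ht).symm

end CfsgLib.J4Type.MaxLocal
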