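import Cfsg.Agent.Lib.J4Type.MaxLocal.Line
import Cfsg.Agent.Lib.J4Type.VGroup
import Cfsg.Agent.Lib.J4Type.SevenGroup

/-!
The subgroup of order eight over the line in `O_2(C(z))`, its centraliser of order `2^18 * 15` and the normal
2-subgroup of that centraliser trivial on the polar modulo the line.
-/

set_option autoImplicit false
set_option linter.unusedSectionVars false
set_option maxRecDepth 20000

namespace CfsgLib.J4Type

open CfsgLib.FischerTwoFour (QRep)
open MaxLocal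
open scoped commutatorElement

universe u

namespace MaxLocal

theorem perp_perp : ((List.range 4096).all fun n => Nat.ble (n + 1) 4 ||
    (List.range 12).any fun k => inPerp (2 ^ k) && (qn (Nat.xor n (2 ^ k)) != qn n)) = true := by
  decide +kernel

theorem basis_singular : ((List.range 12).all fun k => !qn (2 ^ k)) = true := by decide +kernel

theorem inPerp_card : Nat.beq ((List.range 4096).countP inPerp) 1024 = true := by decide +kernel

end MaxLocal

theorem Model.line_of_perp {H V : Type*} [Group H] [AddCommGroup V] {R : QRep H V} (M : Model R) {v : V}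
    (h : ∀ w, inPerp (M.code w) = true → R.b v w = 0) : M.code v < 4 := by
  by_contra hv
  have hn := List.all_eq_true.1 perp_perp _ (List.mem_range.2 (M.code_lt v))
  rw [Bool.or_eq_true, List.any_eq_true] at hn
  rcases hn with hn | ⟨k, hk, hn⟩
  · exact hv (Nat.le_of_ble_eq_true hn)
  rw [List.mem_range] at hk
  rw [Bool.and_eq_true] at hn
  obtain ⟨w, hw⟩ := M.code_surj (2 ^ k) (Nat.pow_lt_pow_right (by norm_num) hk)
  have hs := List.all_eq_true.1 basis_singular k (List.mem_range.2 hk)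
  have e := R.q_add v w
  rw [h w (hw ▸ hn.1), M.code_q, M.code_q, M.code_q, M.code_add, hw] at e
  have h2 := hn.2
  revert e h2 hs
  cases qn (Nat.xor (M.code v) (2 ^ k)) <;> cases qn (M.code v) <;> cases qn (2 ^ k) <;> decide

variable {G : Type u} [Group G] [Finite G] {z : G} {P : Subgroup G}

namespace Ctx

variable (X : Ctx z P)

theorem pr_inv_code (a : QQ z) : X.model.code (pr a⁻¹) = X.model.code (pr a) := by
  rw [(ext13_of X.hyp).pr_eq_iff.2 (by rw [inv_inv]; exact (ext13_of X.hyp).sq_mem a : a⁻¹⁻¹ * a ∈ _)]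

/-- The subgroup of order eight over the line. -/
noncomputable def Ec : Subgroup (CC z) :=
  ({ carrier := {a | X.model.code (pr a) < 4}
     one_mem' := by show X.model.code (pr 1) < 4; rw [pr_one, X.model.code_zero]; norm_num
     mul_mem' := fun {a b} ha hb => by
      show X.model.code (pr (a * b)) < 4
      rw [pr_mul]; exact X.model.line_add ha hb
     inv_mem' := fun {a} ha => by
      show X.model.code (pr a⁻¹) < 4
      rw [X.pr_inv_code]; exact ha } : Subgroup (QQ z)).map (QQ z).subtype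

theorem mem_Ec_iff {c : CC z} : c ∈ X.Ec ↔ ∃ h : c ∈ QQ z, X.model.code (pr (⟨c, h⟩ : QQ z)) < 4 := by
  constructor
  · rintro ⟨a, ha, rfl⟩
    exact ⟨a.2, ha⟩
  · rintro ⟨h, hc⟩
    exact ⟨⟨c, h⟩, hc, rfl⟩

theorem Ec_le_Wc : X.Ec ≤ X.Wc := by
  intro c hc
  obtain ⟨h, hc⟩ := X.mem_Ec_iff.1 hc
  exact X.mem_Wc_iff.2 ⟨h, hc.trans (by norm_num)⟩

theorem zC_mem_Ec : zC z ∈ X.Ec :=
  X.mem_Ec_iff.2 ⟨X.zC_mem, by rw [(X.ext13.pr_eq_zero).2 X.zQ_center, X.model.code_zero]; norm_num⟩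

theorem Ec_sq {c : CC z} (hc : c ∈ X.Ec) : c * c = 1 := X.Wc_sq (X.Ec_le_Wc hc)

theorem Ec_comm {c d : CC z} (hc : c ∈ X.Ec) (hd : d ∈ X.Ec) : c * d = d * c :=
  X.Wc_comm (X.Ec_le_Wc hc) (X.Ec_le_Wc hd)

/-- A subgroup of `O_2(C(z))` containing the centre, through its codes. -/
theorem card_of_codes (S : Subgroup (CC z)) (hS : S ≤ QQ z) (p : ℕ → Bool) {n : ℕ}
    (hp : ∀ a : QQ z, (a : CC z) ∈ S ↔ p (X.model.code (pr a)) = true)
    (hn : (List.range 4096).countP p = n) : Nat.card S = 2 * n := by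
  classical
  let φ : S →* Multiplicative (VQ (QQ z)) :=
    { toFun := fun c => Multiplicative.ofAdd (pr (⟨c, hS c.2⟩ : QQ z))
      map_one' := congrArg Multiplicative.ofAdd pr_one
      map_mul' := fun c d => congrArg Multiplicative.ofAdd (pr_mul (⟨c, hS c.2⟩ : QQ z) ⟨d, hS d.2⟩) }
  have h0 : p 0 = true := by
    have h := (hp 1).1 S.one_mem
    rwa [pr_one, X.model.code_zero] at h
  have hz : zC z ∈ S := by
    refine (hp ⟨zC z, X.zC_mem⟩).2 ?_
    rw [(X.ext13.pr_eq_zero).2 X.zQ_center, X.model.code_zero]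
    exact h0
  rw [← φ.ker.card_mul_index, Subgroup.index_ker]
  have hker : (φ.ker : Set S) = {1, ⟨zC z, hz⟩} := by
    ext c
    constructor
    · intro hc
      have e : pr (⟨c, hS c.2⟩ : QQ z) = 0 := congrArg Multiplicative.toAdd hc
      rcases X.eq_one_or_z ((X.ext13.pr_eq_zero).1 e) with h | h
      · exact Or.inl (Subtype.ext h)
      · exact Or.inr (Subtype.ext h)
    · rintro (rfl | rfl)
      · exact φ.ker.one_mem
      · exact congrArg Multiplicative.ofAdd ((X.ext13.pr_eq_zero).2 X.zQ_center)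
  have hrange : (φ.range : Set (Multiplicative (VQ (QQ z)))) =
      Multiplicative.ofAdd '' {v | p (X.model.code v) = true} := by
    ext v
    constructor
    · rintro ⟨c, rfl⟩
      exact ⟨_, (hp ⟨c, hS c.2⟩).1 c.2, rfl⟩
    · rintro ⟨v, hv, rfl⟩
      obtain ⟨a, rfl⟩ := pr_surj v
      exact ⟨⟨a, (hp a).2 hv⟩, rfl⟩
  have himg : X.model.code '' {v | p (X.model.code v) = true} = {m | m ∈ (List.range 4096).filter p} := by
    ext m
    simp only [Set.mem_image, Set.mem_ofPred_eq, List.mem_filter, List.mem_range]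
    constructor
    · rintro ⟨v, hv, rfl⟩
      exact ⟨X.model.code_lt v, hv⟩
    · rintro ⟨hm, hpm⟩
      obtain ⟨v, rfl⟩ := X.model.code_surj m hm
      exact ⟨v, hpm, rfl⟩
  rw [← SetLike.coe_sort_coe φ.ker, Nat.card_coe_set_eq, hker, Set.ncard_pair
      (fun e => X.zC_ne (congrArg Subtype.val e).symm),
    ← SetLike.coe_sort_coe φ.range, Nat.card_coe_set_eq, hrange,
    Set.ncard_image_of_injective _ Multiplicative.ofAdd.injective,
    ← Set.ncard_image_of_injective _ (fun v w => X.model.code_inj v w : Function.Injective X.model.code),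
    himg, show {m | m ∈ (List.range 4096).filter p} = (((List.range 4096).filter p).toFinset : Set ℕ) by
      ext; simp,
    Set.ncard_coe_finset, List.toFinset_card_of_nodup (List.nodup_range.filter p), ← List.countP_eq_length_filter,
    hn]

theorem card_Ec : Nat.card X.Ec = 8 := by
  refine X.card_of_codes X.Ec (fun c hc => (X.mem_Ec_iff.1 hc).1) (fun m => Nat.ble (m + 1) 4) (n := 4)
    (fun a => ?_) (by decide +kernel)
  rw [Nat.ble_eq]
  exact ⟨fun h => (X.mem_Ec_iff.1 h).2, fun h => X.mem_Ec_iff.2 ⟨a.2, h⟩⟩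

/-- The centraliser of the subgroup of order eight. -/
noncomputable def CEc : Subgroup (CC z) := Subgroup.centralizer (X.Ec : Set (CC z))

theorem mem_CEc_iff {c : CC z} : c ∈ X.CEc ↔ ∀ e ∈ X.Ec, c * e = e * c := by
  simp only [CEc, Subgroup.mem_centralizer_iff, SetLike.mem_coe]
  exact ⟨fun h e he => (h e he).symm, fun h e he => (h e he).symm⟩

theorem QQ_mem_CEc_iff (a : QQ z) : (a : CC z) ∈ X.CEc ↔ inPerp (X.model.code (pr a)) = true := by
  rw [X.model.inPerp_iff, X.mem_CEc_iff]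
  constructor
  · intro h w hw
    obtain ⟨b, rfl⟩ := pr_surj w
    show bf (pr a) (pr b) = 0
    rw [X.ext13.bf_pr, bit_eq_zero, commutatorElement_eq_one_iff_mul_comm]
    exact Subtype.ext (h b (X.mem_Ec_iff.2 ⟨b.2, hw⟩))
  · intro h e he
    obtain ⟨he', hc⟩ := X.mem_Ec_iff.1 he
    have hb : bf (pr a) (pr (⟨e, he'⟩ : QQ z)) = 0 := h _ hc
    rw [X.ext13.bf_pr, bit_eq_zero, commutatorElement_eq_one_iff_mul_comm] at hb
    exact congrArg Subtype.val hb

theorem card_QQ_CEc : Nat.card (X.CEc ⊓ QQ z : Subgroup (CC z)) = 2048 :=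
  X.card_of_codes _ inf_le_right inPerp (n := 1024)
    (fun a => ⟨fun h => (X.QQ_mem_CEc_iff a).1 h.1, fun h => ⟨(X.QQ_mem_CEc_iff a).2 h, a.2⟩⟩)
    (Nat.eq_of_beq_eq_true inPerp_card)

theorem rep_conj (c : CC z) (a : QQ z) :
    (ext13_of X.hyp).rep.ρ (QuotientGroup.mk' (QQ z) c) (pr a) = pr (cjQ c a) :=
  (ext13_of X.hyp).rep_apply c a

theorem mk_mem_lineStab {c : CC z} (hc : c ∈ X.CEc) :
    QuotientGroup.mk' (QQ z) c ∈ X.model.lineStab := by
  intro v hv
  obtain ⟨a, rfl⟩ := pr_surj v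
  rw [X.rep_conj]
  refine congrArg pr (Subtype.ext ?_)
  rw [cjQ_val, X.mem_CEc_iff.1 hc a (X.mem_Ec_iff.2 ⟨a.2, hv⟩), mul_inv_cancel_right]

theorem exists_lift_CEc {h : CC z ⧸ QQ z} (hh : h ∈ X.model.lineStab) :
    ∃ c ∈ X.CEc, QuotientGroup.mk' (QQ z) c = h := by
  classical
  obtain ⟨c, rfl⟩ := QuotientGroup.mk'_surjective (QQ z) h
  obtain ⟨w₁, w₂, c1, c2, hall⟩ := X.model.exists_line_basis
  obtain ⟨e₁, rfl⟩ := pr_surj w₁
  obtain ⟨e₂, rfl⟩ := pr_surj w₂
  have hfix : ∀ e : QQ z, X.model.code (pr e) < 4 → cjQ c e = e ∨ cjQ c e = e * ⟨zC z, X.zC_mem⟩ := by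
    intro e he
    have hp : pr (cjQ c e) = pr e := by rw [← X.rep_conj]; exact hh _ he
    rcases X.eq_one_or_z ((ext13_of X.hyp).pr_eq_iff.1 hp.symm) with h | h
    · exact Or.inl (inv_mul_eq_one.1 (Subtype.ext h : e⁻¹ * cjQ c e = 1)).symm
    · right
      have h' : e⁻¹ * cjQ c e = ⟨zC z, X.zC_mem⟩ := Subtype.ext h
      rw [← h', mul_inv_cancel_left]
  set k := (if cjQ c e₁ = e₁ then 0 else 128) + (if cjQ c e₂ = e₂ then 0 else 64) with hk
  have hk' : k < 4096 ∧ (Nat.testBit k 7 = true ↔ ¬ cjQ c e₁ = e₁) ∧ (Nat.testBit k 6 = true ↔ ¬ cjQ c e₂ = e₂) := by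
    rw [hk]
    by_cases h1 : cjQ c e₁ = e₁ <;> by_cases h2 : cjQ c e₂ = e₂ <;> simp [h1, h2] <;> decide
  obtain ⟨v, hv⟩ := X.model.code_surj k hk'.1
  obtain ⟨y, rfl⟩ := pr_surj v
  have hcomm : ∀ (e : QQ z) (i j : ℕ), X.model.code (pr e) = j → ((i = 7 ∧ j = 1) ∨ (i = 6 ∧ j = 2)) →
      (Nat.testBit k i = true ↔ ¬ cjQ c e = e) → (y : CC z) * c * e = e * ((y : CC z) * c) := by
    intro e i j he hij hiff
    have hb := X.model.b_line (v := pr y) he hij
    rw [hv] at hb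
    have hb' : bf (pr y) (pr e) = if Nat.testBit k i then 1 else 0 := hb
    rw [X.ext13.bf_pr] at hb'
    have hce : (c : CC z) * e = (cjQ c e : CC z) * c := by rw [cjQ_val, inv_mul_cancel_right]
    rcases hfix e (by omega) with h | h
    · have hbit : Nat.testBit k i = false := by
        rw [← Bool.not_eq_true]; exact fun e' => (hiff.1 e') h
      rw [hbit, if_neg Bool.false_ne_true, bit_eq_zero, commutatorElement_eq_one_iff_mul_comm] at hb'
      rw [mul_assoc, hce, h, ← mul_assoc, ← mul_assoc]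
      exact congrArg (fun x : QQ z => (x : CC z) * c) hb'
    · have hne : ¬ cjQ c e = e := fun h' => X.zC_ne (congrArg Subtype.val
        (left_eq_mul.1 (h'.symm.trans h)))
      rw [hiff.2 hne, if_pos rfl] at hb'
      have hne1 : ⁅y, e⁆ ≠ 1 := fun e' => by rw [bit, if_pos e'] at hb'; exact zero_ne_one hb'
      have hz : ⁅y, e⁆ = ⟨zC z, X.zC_mem⟩ := X.ext13.two_center (X.ext13.comm_mem y e) X.zQ_center hne1
        fun e' => X.zC_ne (congrArg Subtype.val e')
      have hye : (y : CC z) * e = zC z * (e * y) := by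
        have := congrArg (fun x : QQ z => (x : CC z)) hz
        simp only [commutatorElement_def, Subgroup.coe_mul, InvMemClass.coe_inv] at this
        rw [← this]; group
      rw [mul_assoc, hce, h, Subgroup.coe_mul]
      calc (y : CC z) * ((e : CC z) * zC z * c) = (y * e) * zC z * c := by group
        _ = zC z * ((e : CC z) * y) * zC z * c := by rw [hye]
        _ = (e : CC z) * y * (zC z * zC z) * c := by rw [zC_comm z ((e : CC z) * y)]; group
        _ = (e : CC z) * ((y : CC z) * c) := by rw [X.zC_sq, mul_one, mul_assoc]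
  refine ⟨(y : CC z) * c, X.mem_CEc_iff.2 fun e he => ?_, ?_⟩
  · obtain ⟨he', hcd⟩ := X.mem_Ec_iff.1 he
    have h1 := hcomm e₁ 7 1 c1 (Or.inl ⟨rfl, rfl⟩) hk'.2.1
    have h2 := hcomm e₂ 6 2 c2 (Or.inr ⟨rfl, rfl⟩) hk'.2.2
    set g := (y : CC z) * c
    have hzc : Commute g (zC z) := (zC_comm z g).symm
    have main : ∀ a : QQ z, Commute g (a : CC z) → ∀ b : QQ z, pr a = pr b → Commute g (b : CC z) := by
      intro a ha b hab
      have h := (ext13_of X.hyp).pr_eq_iff.1 hab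
      rw [show (b : CC z) = (a : CC z) * ((a⁻¹ * b : QQ z) : CC z) by simp]
      refine ha.mul_right ?_
      rcases X.eq_one_or_z h with h' | h' <;> rw [h']
      exacts [Commute.one_right _, hzc]
    rcases hall _ hcd with h | h | h | h
    · exact main 1 (Commute.one_right _) ⟨e, he'⟩ (by rw [h, pr_one])
    · exact main e₁ h1 ⟨e, he'⟩ h.symm
    · exact main e₂ h2 ⟨e, he'⟩ h.symm
    · exact main (e₁ * e₂) (Commute.mul_right h1 h2) ⟨e, he'⟩ (by rw [h, pr_mul])
  · rw [map_mul, show QuotientGroup.mk' (QQ z) (y : CC z) = 1 from (QuotientGroup.eq_one_iff _).2 y.2, one_mul]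

theorem card_CEc : Nat.card X.CEc = 2048 * 1920 := by
  rw [card_eq_inf_ker_mul_map (QuotientGroup.mk' (QQ z)) X.CEc, QuotientGroup.ker_mk', X.card_QQ_CEc,
    ← X.model.card_lineStab]
  congr 2
  refine congrArg (fun S : Subgroup _ => (S : Type u)) (le_antisymm ?_ fun h hh => ?_)
  · rintro _ ⟨c, hc, rfl⟩
    exact X.mk_mem_lineStab hc
  · obtain ⟨c, hc, e⟩ := X.exists_lift_CEc hh
    exact ⟨c, hc, e⟩

/-- The elements of the centraliser trivial on the polar modulo the line. -/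
noncomputable def Lc : Subgroup (CC z) := X.CEc ⊓ X.model.polStab.comap (QuotientGroup.mk' (QQ z))

theorem Lc_le : X.Lc ≤ X.CEc := inf_le_left

theorem card_Lc : Nat.card X.Lc = 2048 * Nat.card X.model.polStab := by
  rw [card_eq_inf_ker_mul_map (QuotientGroup.mk' (QQ z)) X.Lc, QuotientGroup.ker_mk']
  have h1 : X.Lc ⊓ QQ z = X.CEc ⊓ QQ z := by
    refine le_antisymm (inf_le_inf_right _ inf_le_left) fun c hc => ⟨⟨hc.1, ?_⟩, hc.2⟩
    show QuotientGroup.mk' (QQ z) c ∈ X.model.polStab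
    rw [show QuotientGroup.mk' (QQ z) c = 1 from (QuotientGroup.eq_one_iff _).2 hc.2]
    exact one_mem _
  have h2 : X.Lc.map (QuotientGroup.mk' (QQ z)) = X.model.polStab := by
    refine le_antisymm ?_ fun h hh => ?_
    · rintro _ ⟨c, hc, rfl⟩
      exact hc.2
    · obtain ⟨c, hc, e⟩ := X.exists_lift_CEc (X.model.polStab_le hh)
      exact ⟨c, ⟨hc, show QuotientGroup.mk' (QQ z) c ∈ X.model.polStab by rw [e]; exact hh⟩, e⟩
  rw [h1, X.card_QQ_CEc, h2]

theorem Lc_conj {g l : CC z} (hg : g ∈ X.CEc) (hl : l ∈ X.Lc) : g * l * g⁻¹ ∈ X.Lc :=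
  ⟨X.CEc.mul_mem (X.CEc.mul_mem hg hl.1) (X.CEc.inv_mem hg), by
    show QuotientGroup.mk' (QQ z) (g * l * g⁻¹) ∈ X.model.polStab
    rw [map_mul, map_mul, map_inv]
    exact X.model.polStab_conj (X.mk_mem_lineStab hg) hl.2⟩

theorem isPGroup_Lc : IsPGroup 2 X.Lc := by
  intro l
  have h4 : QuotientGroup.mk' (QQ z) ((l : CC z) ^ 4) = 1 := by
    rw [map_pow]; exact X.model.polStab_four l.2.2
  obtain ⟨k, hk⟩ := (IsPGroup.of_card (p := 2) (n := 13) X.ext13.card_Q) ⟨_, (QuotientGroup.eq_one_iff _).1 h4⟩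
  refine ⟨2 + k, Subtype.ext ?_⟩
  rw [Subgroup.coe_pow, pow_add, pow_mul]
  exact congrArg Subtype.val hk

theorem Ec_le_Lc : X.Ec ≤ X.Lc := by
  intro c hc
  refine ⟨X.mem_CEc_iff.2 fun e he => X.Ec_comm hc he, ?_⟩
  show QuotientGroup.mk' (QQ z) c ∈ X.model.polStab
  rw [show QuotientGroup.mk' (QQ z) c = 1 from (QuotientGroup.eq_one_iff _).2 (X.mem_Ec_iff.1 hc).1]
  exact one_mem _

theorem comm_mem_Ec {l a : CC z} (hl : l ∈ X.Lc) (ha : a ∈ X.CEc) (haQ : a ∈ QQ z) :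
    l * a * l⁻¹ * a⁻¹ ∈ X.Ec := by
  have hq : l * a * l⁻¹ * a⁻¹ ∈ QQ z := mul_mem ((QQ_normal z).conj_mem a haQ l) (inv_mem haQ)
  refine X.mem_Ec_iff.2 ⟨hq, ?_⟩
  have e : (⟨l * a * l⁻¹ * a⁻¹, hq⟩ : QQ z) = cjQ l ⟨a, haQ⟩ * (⟨a, haQ⟩ : QQ z)⁻¹ :=
    Subtype.ext (by rw [Subgroup.coe_mul, cjQ_val]; rfl)
  rw [e, pr_mul, X.model.code_add, X.pr_inv_code, ← X.rep_conj, ← X.model.code_add]
  exact hl.2.2 _ ((X.QQ_mem_CEc_iff ⟨a, haQ⟩).1 ha)

theorem sq_mem_Ec {a : CC z} (haQ : a ∈ QQ z) : a * a ∈ X.Ec := by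
  rcases X.eq_one_or_z (X.ext13.sq_mem ⟨a, haQ⟩) with h | h <;> rw [Subgroup.coe_mul] at h <;> rw [h]
  exacts [one_mem _, X.zC_mem_Ec]

theorem central_QQ {a : CC z} (haQ : a ∈ QQ z)
    (h : ∀ b ∈ X.CEc ⊓ QQ z, a * b = b * a) : a ∈ X.Ec := by
  refine X.mem_Ec_iff.2 ⟨haQ, X.model.line_of_perp fun w hw => ?_⟩
  obtain ⟨b, rfl⟩ := pr_surj w
  show bf (pr (⟨a, haQ⟩ : QQ z)) (pr b) = 0
  rw [X.ext13.bf_pr, bit_eq_zero, commutatorElement_eq_one_iff_mul_comm]
  exact Subtype.ext (h b ⟨(X.QQ_mem_CEc_iff b).2 hw, b.2⟩)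

/-- Some element of `Lc` does not centralise `CEc ⊓ QQ` modulo the centre. -/
theorem exists_moving : ∃ l ∈ X.Lc, ∃ b ∈ X.CEc ⊓ QQ z, l * b ≠ b * l := by
  obtain ⟨h, hh, v, hv, hne⟩ := X.model.polStab_moves
  obtain ⟨l, hl, rfl⟩ := X.exists_lift_CEc (X.model.polStab_le hh)
  obtain ⟨b, rfl⟩ := pr_surj v
  refine ⟨l, ⟨hl, hh⟩, b, ⟨(X.QQ_mem_CEc_iff b).2 hv, b.2⟩, fun e => hne ?_⟩
  rw [X.rep_conj]
  exact congrArg pr (Subtype.ext (by rw [cjQ_val, e, mul_inv_cancel_right]))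

end Ctx

end CfsgLib.J4Type
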