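import Cfsg.Agent.Lib.J4Type.MaxLocal.Realise
import Cfsg.Agent.Lib.J4Type.MaxLocal.LineGroup
import Cfsg.Agent.Lib.J4Type.Assemble

/-!
A subgroup of order `168` in the complement of `V` normalising the subgroup of order eight over the line and
acting faithfully on it.
-/

set_option autoImplicit false
set_option linter.unusedSectionVars false
set_option maxRecDepth 20000

namespace CfsgLib.J4Type

open MaxLocal

universe u

theorem app_map_app (g : List ℕ) : ∀ (cols : List ℕ) (v : ℕ), app (cols.map (app g)) v = app g (app cols v)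
  | [], v => (app_zero g).symm
  | c :: cs, v => by
    rw [List.map_cons, app, app, app_map_app g cs, app_xor]
    split
    · rfl
    · rw [app_zero]

namespace MaxLocal

theorem app_lt_two_pow : ∀ (cols : List ℕ), (∀ c ∈ cols, c < 2048) → ∀ v, app cols v < 2048
  | [], _, _ => Nat.two_pow_pos 11
  | c :: cs, h, v => by
    rw [app]
    refine Nat.xor_lt_two_pow (n := 11) ?_ (app_lt_two_pow cs (fun d hd => h d (List.mem_cons_of_mem _ hd)) _)
    split
    · exact h c List.mem_cons_self
    · norm_num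

theorem lGen_lt (j : ℕ) (hj : j < 2) (v : ℕ) : app (lGen.getD j []) v < 2048 := by
  refine app_lt_two_pow _ (fun c hc => ?_) v
  have hmem : lGen.getD j [] ∈ lGen := by
    have hl : lGen.length = 2 := rfl
    rw [List.getD_eq_getElem _ _ (by omega)]; exact List.getElem_mem _
  have h := List.all_eq_true.1 lGen_check _ hmem
  simp only [Bool.and_eq_true, List.all_eq_true] at h
  exact Nat.le_of_ble_eq_true (h.1.2 c hc)

theorem idCols_app : ((List.range 2048).all fun v => Nat.beq (app ((List.range 11).map (2 ^ ·)) v) v) = true := by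
  decide +kernel

end MaxLocal

namespace Ctx

variable {G : Type u} [Group G] [Finite G] {z : G} {P : Subgroup G} (X : Ctx z P)

/-- The subgroup of order eight over the line, in `G`. -/
noncomputable def Eg : Subgroup G := X.Ec.map (CC z).subtype

theorem card_Eg : Nat.card X.Eg = 8 :=
  (Nat.card_congr (Subgroup.equivMapOfInjective X.Ec _ (CC z).subtype_injective).toEquiv).symm.trans X.card_Ec

theorem z_mem_Eg : z ∈ X.Eg := ⟨zC z, X.zC_mem_Ec, rfl⟩

theorem Eg_elementary : Cfsg.IsElementaryAbelian 2 X.Eg := by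
  refine elementary_map ⟨⟨⟨fun a b => Subtype.ext (X.Ec_comm a.2 b.2)⟩⟩, fun a ha => ?_⟩ _
  rw [pow_two]; exact X.Ec_sq ha

theorem centralizer_Eg : Subgroup.centralizer (X.Eg : Set G) = X.CEc.map (CC z).subtype := by
  ext g
  constructor
  · intro hg
    have hgz : g ∈ CC z := Subgroup.mem_centralizer_singleton_iff.2
      ((Subgroup.mem_centralizer_iff.1 hg z X.z_mem_Eg).symm)
    exact ⟨⟨g, hgz⟩, X.mem_CEc_iff.2 fun e he => Subtype.ext
      ((Subgroup.mem_centralizer_iff.1 hg (e : G) ⟨e, he, rfl⟩).symm), rfl⟩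
  · rintro ⟨c, hc, rfl⟩
    rw [Subgroup.mem_centralizer_iff]
    rintro _ ⟨e, he, rfl⟩
    exact (congrArg Subtype.val (X.mem_CEc_iff.1 hc e he)).symm

theorem mem_Eg_iff {ec : ℕ} (D : VAct z X.Vg ec)
    (hlow : ∀ a : QQ z, (a : CC z) ∈ X.Wc →
      ∃ v, v < 128 ∧ D.enc v = ((a : CC z) : G) ∧ X.model.code (pr a) = v % 64) {g : G} :
    g ∈ X.Eg ↔ ∃ v ∈ eCodes, D.enc v = g := by
  classical
  have hsub : (X.Eg : Set G) ⊆ D.enc '' {v | v ∈ eCodes} := by
    rintro _ ⟨e, he, rfl⟩
    obtain ⟨he', hc⟩ := X.mem_Ec_iff.1 he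
    obtain ⟨v, hv, h1, h2⟩ := hlow ⟨e, he'⟩ (X.Ec_le_Wc he)
    refine ⟨v, ?_, h1⟩
    rw [h2] at hc
    have : v = 0 ∨ v = 1 ∨ v = 2 ∨ v = 3 ∨ v = 64 ∨ v = 65 ∨ v = 66 ∨ v = 67 := by omega
    simp only [eCodes, Set.mem_ofPred_eq, List.mem_cons, List.not_mem_nil, or_false]
    exact this
  have heq : (X.Eg : Set G) = D.enc '' {v | v ∈ eCodes} := by
    refine Set.eq_of_subset_of_ncard_le hsub ?_ (Set.toFinite _)
    rw [show {v | v ∈ eCodes} = (eCodes.toFinset : Set ℕ) by ext; simp, ← Finset.coe_image, Set.ncard_coe_finset,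
      ← Nat.card_coe_set_eq]
    refine le_trans Finset.card_image_le ?_
    show _ ≤ Nat.card ↥X.Eg
    rw [X.card_Eg]; decide
  rw [← SetLike.mem_coe, heq]
  rfl

/-- The subgroup of order `168`. -/
theorem exists_l32 (hP : VPackage X) : ∃ K2 : Subgroup G, Nat.card K2 = 168 ∧
    K2 ≤ Subgroup.normalizer (X.Eg : Set G) ∧
    ∀ k ∈ K2, (∀ e ∈ X.Eg, k * e = e * k) → k = 1 := by
  classical
  obtain ⟨ec, D, hlow⟩ := hP.vact
  obtain ⟨K, hK, hKV, hKs, -⟩ := hP.split
  set N := Subgroup.normalizer (X.Vg : Set G) with hN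
  -- lifts of the two maps in the complement
  have hlift : ∀ j, j < 2 → ∃ k ∈ K, ∀ v, v < 2048 → k * D.enc v * k⁻¹ = D.enc (app (lGen.getD j []) v) := by
    intro j hj
    have hmem : lGen.getD j [] ∈ lGen := by
      have hl : lGen.length = 2 := rfl
      rw [List.getD_eq_getElem _ _ (by omega)]; exact List.getElem_mem _
    have hc := List.all_eq_true.1 lGen_check _ hmem
    simp only [Bool.and_eq_true, List.all_eq_true] at hc
    have hcl : ∀ v, app (lGen.getD j []) v < 2048 := lGen_lt j hj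
    obtain ⟨m, hm, hm'⟩ := D.exists_conj_code (fun v _ => hcl v)
      (fun v hv h0 => by
        have h := List.all_eq_true.1 (List.all_eq_true.1 lGen_inj _ hmem) v (List.mem_range.2 hv)
        rw [Bool.or_eq_true, h0, Nat.beq_refl] at h
        simpa using h)
      (fun v hv => beq_iff_eq.1 (List.all_eq_true.1 (List.all_eq_true.1 lGen_nc _ hmem) v (List.mem_range.2 hv)))
    have hm2 : m ∈ (↑(K ⊔ X.Vg) : Set G) := by rw [hKs]; exact hm
    rw [Subgroup.coe_mul_of_left_le_normalizer_right K X.Vg hK] at hm2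
    obtain ⟨k, hk, a, ha, rfl⟩ := hm2
    refine ⟨k, hk, fun v hv => ?_⟩
    rw [← hm' v hv, show k * a * D.enc v * (k * a)⁻¹ = k * (a * D.enc v * a⁻¹) * k⁻¹ by group,
      D.comm' a ha _ (D.enc_mem v hv), mul_inv_cancel_right]
  obtain ⟨ka, hka, hka'⟩ := hlift 0 (by norm_num)
  obtain ⟨kb, hkb, hkb'⟩ := hlift 1 (by norm_num)
  let Act : G → ℕ → Prop := fun k i => ∀ v, v < 2048 → k * D.enc v * k⁻¹ = D.enc (app (lEls.getD i []) v)
  have hel := lEls_check
  simp only [Bool.and_eq_true, List.all_eq_true, List.mem_range, beq_iff_eq] at hel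
  obtain ⟨⟨-, hid⟩, hnext⟩ := hel
  have hid' : ∀ v, v < 2048 → app (lEls.getD 0 []) v = v := fun v hv => by
    rw [hid]; exact Nat.eq_of_beq_eq_true (List.all_eq_true.1 idCols_app v (List.mem_range.2 hv))
  have hstep : ∀ j, j < 2 → ∀ i, i < 168 → lNext.getD i 0 / 256 ^ j % 256 < 168 ∧
      ∀ v, app (lEls.getD (lNext.getD i 0 / 256 ^ j % 256) []) v = app (lGen.getD j []) (app (lEls.getD i []) v) :=
    fun j hj i hi => ⟨Nat.le_of_ble_eq_true ((hnext i hi).2 j hj).1,
      fun v => by rw [← ((hnext i hi).2 j hj).2, app_map_app]⟩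
  have hlt : ∀ i, i < 168 → ∀ v, v < 2048 → app (lEls.getD i []) v < 2048 := by
    intro i
    induction i using Nat.strong_induction_on with
    | _ i ih =>
      intro hi v hv
      by_cases h0 : i = 0
      · rw [h0, hid' v hv]; exact hv
      have h := List.all_eq_true.1 lEls_reach i (List.mem_range.2 hi)
      rw [Bool.or_eq_true, Bool.and_eq_true] at h
      obtain ⟨h1, h2⟩ := h.resolve_left fun e => h0 (Nat.eq_of_beq_eq_true e)
      have h1' : lPar.getD i 0 / 2 < i := Nat.le_of_ble_eq_true h1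
      have hs := (hstep (lPar.getD i 0 % 2) (Nat.mod_lt _ (by norm_num)) (lPar.getD i 0 / 2) (by omega)).2 v
      rw [Nat.eq_of_beq_eq_true h2] at hs
      rw [hs]
      exact lGen_lt _ (Nat.mod_lt _ (by norm_num)) _
  -- every element of the closure acts as a listed map
  let S : Subgroup G :=
    { carrier := {k | k ∈ K ∧ ∀ i, i < 168 → ∀ g, Act g i → ∃ i', i' < 168 ∧ Act (k * g) i'}
      one_mem' := ⟨K.one_mem, fun i hi g hg => ⟨i, hi, by rwa [one_mul]⟩⟩
      mul_mem' := fun {a b} ha hb => ⟨K.mul_mem ha.1 hb.1, fun i hi g hg => by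
        obtain ⟨i', hi', h'⟩ := hb.2 i hi g hg
        obtain ⟨i'', hi'', h''⟩ := ha.2 i' hi' _ h'
        exact ⟨i'', hi'', by rwa [mul_assoc]⟩⟩
      inv_mem' := fun {a} ha => ⟨K.inv_mem ha.1, fun i hi g hg => by
        have hpow : ∀ n : ℕ, ∃ i', i' < 168 ∧ Act (a ^ n * g) i' := by
          intro n
          induction n with
          | zero => exact ⟨i, hi, by rwa [pow_zero, one_mul]⟩
          | succ n ih =>
            obtain ⟨i', hi', h'⟩ := ih
            obtain ⟨i'', hi'', h''⟩ := ha.2 i' hi' _ h'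
            exact ⟨i'', hi'', by rwa [pow_succ', mul_assoc]⟩
        rw [show a⁻¹ = a ^ (orderOf a - 1) from inv_eq_of_mul_eq_one_right (by
          rw [← pow_succ', show orderOf a - 1 + 1 = orderOf a by have := orderOf_pos a; omega,
            pow_orderOf_eq_one])]
        exact hpow _⟩ }
  have hgenS : ∀ j, j < 2 → ∀ k ∈ K, (∀ v, v < 2048 → k * D.enc v * k⁻¹ = D.enc (app (lGen.getD j []) v)) →
      k ∈ S := fun j hj k hkK hk => ⟨hkK, fun i hi g hg => ⟨_, (hstep j hj i hi).1, fun v hv => by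
    rw [(hstep j hj i hi).2, ← hk _ (hlt i hi v hv), ← hg v hv]; group⟩⟩
  set K2 := Subgroup.closure ({ka, kb} : Set G) with hK2
  have hK2S : K2 ≤ S := (Subgroup.closure_le S).2 (by
    rintro x (rfl | rfl)
    · exact hgenS 0 (by norm_num) _ hka hka'
    · exact hgenS 1 (by norm_num) _ hkb hkb')
  have hact0 : Act 1 0 := fun v hv => by rw [one_mul, inv_one, mul_one, hid' v hv]
  have hAct : ∀ k ∈ K2, ∃ i, i < 168 ∧ Act k i := fun k hk => by
    obtain ⟨i, hi, h⟩ := (hK2S hk).2 0 (by norm_num) 1 hact0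
    exact ⟨i, hi, by rwa [mul_one] at h⟩
  have hreach : ∀ i, i < 168 → ∃ k ∈ K2, Act k i := by
    intro i
    induction i using Nat.strong_induction_on with
    | _ i ih =>
      intro hi
      by_cases h0 : i = 0
      · exact ⟨1, one_mem _, h0 ▸ hact0⟩
      have h := List.all_eq_true.1 lEls_reach i (List.mem_range.2 hi)
      rw [Bool.or_eq_true, Bool.and_eq_true] at h
      obtain ⟨h1, h2⟩ := h.resolve_left fun e => h0 (Nat.eq_of_beq_eq_true e)
      have h1' : lPar.getD i 0 / 2 < i := Nat.le_of_ble_eq_true h1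
      obtain ⟨g, hg, hga⟩ := ih _ h1' (by omega)
      set j := lPar.getD i 0 % 2 with hj
      have hj2 : j = 0 ∨ j = 1 := by omega
      obtain ⟨k, hk, hk'⟩ : ∃ k ∈ K2, ∀ v, v < 2048 → k * D.enc v * k⁻¹ = D.enc (app (lGen.getD j []) v) := by
        rcases hj2 with e | e <;> rw [e]
        · exact ⟨ka, Subgroup.subset_closure (Or.inl rfl), hka'⟩
        · exact ⟨kb, Subgroup.subset_closure (Or.inr rfl), hkb'⟩
      refine ⟨k * g, mul_mem hk hg, fun v hv => ?_⟩
      rw [← Nat.eq_of_beq_eq_true h2, (hstep j (by omega) _ (by omega)).2,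
        ← hk' _ (hlt _ (by omega) v hv), ← hga v hv]
      group
  -- determined on the subgroup of order eight
  let key : ℕ → ℕ := fun i => app (lEls.getD i []) 64 + 2048 * app (lEls.getD i []) 1 +
    2048 * 2048 * app (lEls.getD i []) 2
  have hkey : ∀ i j, i < 168 → j < 168 → key i = key j → i = j := by
    intro i j hi hj e
    have hd : ∀ l : List ℕ, distinct l = true → l.Nodup := by
      intro l
      induction l with
      | nil => intro _; exact List.nodup_nil
      | cons x xs ih =>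
        intro h
        simp only [distinct, Bool.and_eq_true, List.all_eq_true, Bool.not_eq_true'] at h
        refine List.nodup_cons.2 ⟨fun hx => ?_, ih h.2⟩
        have := h.1 x hx
        rw [Nat.beq_refl] at this
        exact Bool.noConfusion this
    have hnd := hd _ lEls_act
    exact (List.inj_on_of_nodup_map hnd) (List.mem_range.2 hi) (List.mem_range.2 hj) e
  have hKact : ∀ k ∈ K, (∀ v, v < 2048 → k * D.enc v * k⁻¹ = D.enc v) → k = 1 := by
    intro k hk h
    have hmem : k ∈ K ⊓ X.Vg := ⟨hk, hP.self_cent (Subgroup.mem_centralizer_iff.2 fun a ha => by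
      obtain ⟨v, hv, rfl⟩ := D.enc_surj a ha
      exact (mul_inv_eq_iff_eq_mul.1 (h v hv)).symm)⟩
    rwa [hKV, Subgroup.mem_bot] at hmem
  have huniq : ∀ k ∈ K2, ∀ k' ∈ K2, ∀ i, Act k i → Act k' i → k = k' := by
    intro k hk k' hk' i h h'
    refine inv_mul_eq_one.1 (hKact _ (K.mul_mem (K.inv_mem (hK2S hk).1) (hK2S hk').1) fun v hv => ?_)
    rw [show k⁻¹ * k' * D.enc v * (k⁻¹ * k')⁻¹ = k⁻¹ * (k' * D.enc v * k'⁻¹) * k by group, h' v hv, ← h v hv]
    group
  have hsame : ∀ k ∈ K2, ∀ i, i < 168 → Act k i → ∀ i', i' < 168 → Act k i' → i = i' := by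
    intro k _ i hi h i' hi' h'
    refine hkey i i' hi hi' ?_
    have e : ∀ v, v < 2048 → app (lEls.getD i []) v = app (lEls.getD i' []) v := fun v hv =>
      D.enc_inj _ _ (hlt i hi v hv) (hlt i' hi' v hv) ((h v hv).symm.trans (h' v hv))
    simp only [key]
    rw [e 64 (by norm_num), e 1 (by norm_num), e 2 (by norm_num)]
  choose f hf1 hf2 using fun k : K2 => hAct k k.2
  choose g hg1 hg2 using fun i : Fin 168 => hreach i.val i.isLt
  have hcard : Nat.card K2 = 168 := by
    refine (Nat.card_congr ?_).trans (Nat.card_fin 168)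
    exact
      { toFun := fun k => ⟨f k, hf1 k⟩
        invFun := fun i => ⟨g i, hg1 i⟩
        left_inv := fun k => Subtype.ext (huniq _ (hg1 _) _ k.2 _ (hg2 _) (hf2 k))
        right_inv := fun i => Fin.ext (hsame _ (hg1 i) _ (hf1 _) (hf2 ⟨g i, hg1 i⟩) _ i.isLt (hg2 i)) }
  refine ⟨K2, hcard, ?_, fun k hk hc => ?_⟩
  · refine (Subgroup.closure_le _).2 ?_
    have hgen : ∀ j, j < 2 → ∀ k : G, (∀ v, v < 2048 → k * D.enc v * k⁻¹ = D.enc (app (lGen.getD j []) v)) →
        k ∈ Subgroup.normalizer (X.Eg : Set G) := by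
      intro j hj k hk
      refine Subgroup.mem_normalizer_fintype fun e he => ?_
      obtain ⟨v, hv, rfl⟩ := (X.mem_Eg_iff D hlow).1 he
      have hmem : lGen.getD j [] ∈ lGen := by
        have hl : lGen.length = 2 := rfl
        rw [List.getD_eq_getElem _ _ (by omega)]; exact List.getElem_mem _
      have hc := List.all_eq_true.1 lGen_check _ hmem
      simp only [Bool.and_eq_true, List.all_eq_true] at hc
      have hv2 : v < 2048 := by
        have : ∀ v ∈ eCodes, v < 2048 := by decide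
        exact this v hv
      rw [SetLike.mem_coe, hk v hv2, X.mem_Eg_iff D hlow]
      exact ⟨_, List.contains_iff_mem.1 (hc.2 v hv), rfl⟩
    rintro x (rfl | rfl)
    · exact hgen 0 (by norm_num) _ hka'
    · exact hgen 1 (by norm_num) _ hkb'
  · obtain ⟨i, hi, hA⟩ := hAct k hk
    have hfix : ∀ v ∈ eCodes, v < 2048 → app (lEls.getD i []) v = v := fun v hv hv2 => by
      refine D.enc_inj _ _ (hlt i hi v hv2) hv2 ?_
      rw [← hA v hv2, hc _ ((X.mem_Eg_iff D hlow).2 ⟨v, hv, rfl⟩), mul_inv_cancel_right]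
    have hi0 : i = 0 := hkey i 0 hi (by norm_num) (by
      simp only [key]
      rw [hfix 64 (by decide) (by norm_num), hfix 1 (by decide) (by norm_num), hfix 2 (by decide) (by norm_num),
        hid' 64 (by norm_num), hid' 1 (by norm_num), hid' 2 (by norm_num)])
    exact huniq k hk 1 (one_mem _) 0 (hi0 ▸ hA) hact0

end Ctx

end CfsgLib.J4Type
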