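import Cfsg.Agent.Lib.J4Type.MaxLocal.Checks
import Cfsg.Agent.Lib.J4Type.VBase

/-!
The line with codes below `4` in the model: its pointwise stabiliser has order `1920`, and the elements of
it trivial on the polar modulo the line form a normal 2-subgroup with at least sixteen elements.
-/

set_option autoImplicit false
set_option linter.unusedSectionVars false
set_option maxRecDepth 20000
set_option linter.style.haveILetI false

namespace CfsgLib.J4Type

open CfsgLib.FischerTwoFour (QRep)
open MaxLocal

namespace Model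

variable {H V : Type*} [Group H] [AddCommGroup V] {R : QRep H V} (M : Model R)

theorem word_ok {w : List ℕ} (h : w.all (fun j => Nat.ble (j + 1) 8) = true) : ∀ j ∈ w, j < 8 :=
  fun j hj => Nat.le_of_ble_eq_true (List.all_eq_true.1 h j hj)

theorem b_symm (u v : V) : R.b u v = R.b v u := by
  have h1 := R.q_add u v
  have h2 := R.q_add v u
  rw [add_comm v u, h1] at h2
  have e : R.q u + R.q v = R.q v + R.q u := add_comm _ _
  rw [e] at h2
  exact add_left_cancel h2

theorem b_inv (h : H) (u v : V) : R.b (R.ρ h u) (R.ρ h v) = R.b u v := by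
  have h1 := R.q_add (R.ρ h u) (R.ρ h v)
  rw [← map_add, R.q_inv, R.q_inv, R.q_inv, R.q_add] at h1
  exact (add_left_cancel h1).symm

theorem b_line {v w : V} {i j : ℕ} (hw : M.code w = j) (hj : (i = 7 ∧ j = 1) ∨ (i = 6 ∧ j = 2)) :
    R.b v w = if Nat.testBit (M.code v) i then 1 else 0 := by
  have h := List.all_eq_true.1 polar_check _ (List.mem_range.2 (M.code_lt v))
  simp only [Bool.and_eq_true, beq_iff_eq] at h
  have hq : qn (Nat.xor (M.code v) j) = xor (qn (M.code v)) (Nat.testBit (M.code v) i) := by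
    rcases hj with ⟨rfl, rfl⟩ | ⟨rfl, rfl⟩
    · exact h.1
    · exact h.2
  have hj0 : qn j = false := by
    rcases hj with ⟨-, rfl⟩ | ⟨-, rfl⟩ <;> decide
  have e := R.q_add v w
  rw [M.code_q, M.code_q, M.code_q, M.code_add, hw, hq, hj0] at e
  revert e
  generalize R.b v w = x
  revert x
  cases qn (M.code v) <;> cases Nat.testBit (M.code v) i <;> decide

theorem exists_line_basis : ∃ w₁ w₂ : V, M.code w₁ = 1 ∧ M.code w₂ = 2 ∧
    ∀ w, M.code w < 4 → w = 0 ∨ w = w₁ ∨ w = w₂ ∨ w = w₁ + w₂ := by
  obtain ⟨w₁, h1⟩ := M.code_surj 1 (by norm_num)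
  obtain ⟨w₂, h2⟩ := M.code_surj 2 (by norm_num)
  refine ⟨w₁, w₂, h1, h2, fun w hw => ?_⟩
  obtain h | h | h | h : M.code w = 0 ∨ M.code w = 1 ∨ M.code w = 2 ∨ M.code w = 3 := by omega
  · exact Or.inl (M.code_inj _ _ (h.trans M.code_zero.symm))
  · exact Or.inr (Or.inl (M.code_inj _ _ (h.trans h1.symm)))
  · exact Or.inr (Or.inr (Or.inl (M.code_inj _ _ (h.trans h2.symm))))
  · refine Or.inr (Or.inr (Or.inr (M.code_inj _ _ ?_)))
    rw [M.code_add, h1, h2, h]
    rfl

/-- The polar of the line. -/
theorem inPerp_iff {v : V} : inPerp (M.code v) = true ↔ ∀ w, M.code w < 4 → R.b v w = 0 := by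
  obtain ⟨w₁, w₂, h1, h2, hall⟩ := M.exists_line_basis
  have e1 := M.b_line (v := v) (i := 7) h1 (Or.inl ⟨rfl, rfl⟩)
  have e2 := M.b_line (v := v) (i := 6) h2 (Or.inr ⟨rfl, rfl⟩)
  simp only [inPerp, Bool.and_eq_true, Bool.not_eq_true']
  constructor
  · rintro ⟨h6, h7⟩ w hw
    rw [h7] at e1
    rw [h6] at e2
    simp only [Bool.false_eq_true, if_false] at e1 e2
    have h0 : R.b v 0 = 0 := by
      rw [b_symm]
      have := R.b_add 0 0 v
      rw [add_zero] at this
      exact left_eq_add.mp this
    rcases hall w hw with rfl | rfl | rfl | rfl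
    · exact h0
    · exact e1
    · exact e2
    · rw [b_symm, R.b_add, b_symm w₁, b_symm w₂, e1, e2, add_zero]
  · intro h
    have f1 := h w₁ (by omega)
    have f2 := h w₂ (by omega)
    rw [e1] at f1
    rw [e2] at f2
    constructor
    · by_contra hb
      rw [Bool.not_eq_false] at hb
      rw [hb] at f2
      exact one_ne_zero f2
    · by_contra hb
      rw [Bool.not_eq_false] at hb
      rw [hb] at f1
      exact one_ne_zero f1

/-- The pointwise stabiliser of the line. -/
def lineStab : Subgroup H where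
  carrier := {h | ∀ v, M.code v < 4 → R.ρ h v = v}
  one_mem' := fun v _ => R.one_apply v
  mul_mem' := fun {a b} ha hb v hv => by rw [R.mul_apply, hb v hv, ha v hv]
  inv_mem' := fun {a} ha v hv => by
    conv_lhs => rw [← ha v hv]
    exact R.inv_apply a v

theorem perp_map {h : H} (hh : h ∈ M.lineStab) {v : V} (hv : inPerp (M.code v) = true) :
    inPerp (M.code (R.ρ h v)) = true := by
  rw [M.inPerp_iff] at hv ⊢
  intro w hw
  rw [← hh w hw, b_inv]
  exact hv w hw

theorem perp_comm {h : H} (hh : h ∈ M.lineStab) (v : V) :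
    inPerp (M.code (R.ρ h v + v)) = true := by
  rw [M.inPerp_iff]
  intro w hw
  rw [R.b_add]
  conv_lhs => arg 1; rw [← hh w hw, b_inv]
  exact ZModModule.add_self _

theorem line_add {v w : V} (hv : M.code v < 4) (hw : M.code w < 4) : M.code (v + w) < 4 := by
  rw [M.code_add]; exact Nat.xor_lt_two_pow (n := 2) hv hw

/-- The elements of the stabiliser trivial on the polar modulo the line. -/
def polStab : Subgroup H where
  carrier := {h | h ∈ M.lineStab ∧ ∀ v, inPerp (M.code v) = true → M.code (R.ρ h v + v) < 4}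
  one_mem' := ⟨M.lineStab.one_mem, fun v _ => by rw [R.one_apply, R.two, M.code_zero]; norm_num⟩
  mul_mem' := fun {a b} ha hb => ⟨M.lineStab.mul_mem ha.1 hb.1, fun v hv => by
    have e : R.ρ (a * b) v + v = R.ρ a (R.ρ b v + v) + (R.ρ a v + v) := by
      rw [R.mul_apply, map_add, add_assoc (R.ρ a (R.ρ b v)), ← add_assoc (R.ρ a v) (R.ρ a v),
        R.two, zero_add]
    rw [e]
    refine M.line_add ?_ (ha.2 v hv)
    rw [ha.1 _ (hb.2 v hv)]
    exact hb.2 v hv⟩
  inv_mem' := fun {a} ha => ⟨M.lineStab.inv_mem ha.1, fun v hv => by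
    have h := ha.2 _ (M.perp_map (M.lineStab.inv_mem ha.1) hv)
    rw [show R.ρ a (R.ρ a⁻¹ v) = v by rw [← R.mul_apply, mul_inv_cancel, R.one_apply]] at h
    rwa [add_comm] at h⟩

theorem polStab_le : M.polStab ≤ M.lineStab := fun _ h => h.1

theorem polStab_conj {g h : H} (hg : g ∈ M.lineStab) (hh : h ∈ M.polStab) : g * h * g⁻¹ ∈ M.polStab := by
  refine ⟨M.lineStab.mul_mem (M.lineStab.mul_mem hg hh.1) (M.lineStab.inv_mem hg), fun v hv => ?_⟩
  have h' := hh.2 _ (M.perp_map (M.lineStab.inv_mem hg) hv)
  have e : R.ρ (g * h * g⁻¹) v + v = R.ρ g (R.ρ h (R.ρ g⁻¹ v) + R.ρ g⁻¹ v) := by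
    rw [map_add, ← R.mul_apply g h, ← R.mul_apply (g * h), ← R.mul_apply g, mul_inv_cancel, R.one_apply]
  rw [e, hg _ h']
  exact h'

theorem polStab_four {h : H} (hh : h ∈ M.polStab) : h ^ 4 = 1 := by
  refine R.faithful _ fun v => ?_
  set δ : V → V := fun u => R.ρ h u + u with hδ
  have hfix : ∀ u, M.code u < 4 → δ u = 0 := fun u hu => by
    show R.ρ h u + u = 0
    rw [hh.1 u hu, R.two]
  have h2 : ∀ u, R.ρ (h * h) u = δ (δ u) + u := fun u => by
    show _ = R.ρ h (R.ρ h u + u) + (R.ρ h u + u) + u
    rw [R.mul_apply, map_add, add_assoc, add_assoc (R.ρ h u) u u, R.two, add_zero, add_assoc,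
      R.two, add_zero]
  rw [show h ^ 4 = h * h * (h * h) by simp [pow_succ, mul_assoc], R.mul_apply, h2 v, map_add, h2 v, h2]
  have hz : δ (δ (δ v)) = 0 := hfix _ (hh.2 _ (M.perp_comm hh.1 v))
  have h0 : δ 0 = 0 := by
    show R.ρ h 0 + 0 = 0
    rw [map_zero, add_zero]
  rw [hz, h0, zero_add, ← add_assoc, R.two, zero_add]

/-- An orbit of size `1386`. -/
theorem card_lineStab : Nat.card M.lineStab = 1920 := by
  classical
  obtain ⟨w₁, w₂, h1, h2, hall⟩ := M.exists_line_basis
  have := M.finite
  letI act : MulAction H (V × V) :=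
    { smul := fun h p => (R.ρ h p.1, R.ρ h p.2)
      one_smul := fun p => Prod.ext (R.one_apply _) (R.one_apply _)
      mul_smul := fun a b p => Prod.ext (R.mul_apply _ _ _) (R.mul_apply _ _ _) }
  have hsmul : ∀ (h : H) (p : V × V), h • p = (R.ρ h p.1, R.ρ h p.2) := fun _ _ => rfl
  have hst : MulAction.stabilizer H (w₁, w₂) = M.lineStab := by
    ext h
    rw [MulAction.mem_stabilizer_iff, hsmul, Prod.ext_iff]
    constructor
    · rintro ⟨e1, e2⟩ v hv
      replace e1 : R.ρ h w₁ = w₁ := e1
      replace e2 : R.ρ h w₂ = w₂ := e2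
      rcases hall v hv with rfl | rfl | rfl | rfl
      · exact map_zero _
      · exact e1
      · exact e2
      · rw [map_add, e1, e2]
    · exact fun hh => ⟨hh w₁ (by omega), hh w₂ (by omega)⟩
  let key : V × V → ℕ := fun p => M.code p.1 * 4096 + M.code p.2
  have key_inj : Function.Injective key := by
    rintro ⟨a, b⟩ ⟨c, d⟩ e
    have := M.code_lt b
    have := M.code_lt d
    simp only [key] at e
    exact Prod.ext (M.code_inj _ _ (by show M.code a = M.code c; omega))
      (M.code_inj _ _ (by show M.code b = M.code d; omega))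
  set L := (List.range 1386).map (get pairT) with hL
  have hk0 : key (w₁, w₂) = get pairT 0 := by
    rw [Nat.eq_of_beq_eq_true pair_start]; simp [key, h1, h2]
  have hstep : ∀ k, k < 1386 → ∀ j, j < 8 → ∀ p, key p = get pairT k →
      key (M.gen j • p) = get pairT (get pairNext k / 2 ^ (11 * j) % 2048) := by
    intro k hk j hj p hp
    have h := List.all_eq_true.1 (List.all_eq_true.1 pair_closed k (List.mem_range.2 hk)) j (List.mem_range.2 hj)
    rw [Bool.and_eq_true] at h
    rw [Nat.eq_of_beq_eq_true h.2, hsmul, ← hp]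
    have := M.code_lt p.2
    simp only [key]
    rw [M.code_gen, M.code_gen, show (M.code p.1 * 4096 + M.code p.2) / 4096 = M.code p.1 by omega,
      show (M.code p.1 * 4096 + M.code p.2) % 4096 = M.code p.2 by omega]
  have hreach : ∀ k, k < 1386 → ∃ h : H, key (h • (w₁, w₂)) = get pairT k := by
    intro k
    induction k using Nat.strong_induction_on with
    | _ k ih =>
      intro hk
      by_cases h0 : k = 0
      · exact ⟨1, by rw [one_smul, h0]; exact hk0⟩
      have h := List.all_eq_true.1 pair_reach k (List.mem_range.2 hk)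
      rw [Bool.or_eq_true, Bool.and_eq_true] at h
      obtain ⟨hlt, hn⟩ := h.resolve_left (fun e => h0 (Nat.eq_of_beq_eq_true e))
      have hlt' : get pairPar k / 8 < k := Nat.le_of_ble_eq_true hlt
      obtain ⟨g, hg⟩ := ih _ hlt' (by omega)
      refine ⟨M.gen (get pairPar k % 8) * g, ?_⟩
      rw [mul_smul, hstep _ (by omega) _ (Nat.mod_lt _ (by norm_num)) _ hg, Nat.eq_of_beq_eq_true hn]
  have hgen : ∀ j, j < 8 → ∀ p, key p ∈ L → key (M.gen j • p) ∈ L := by
    intro j hj p hp
    obtain ⟨k, hk, e⟩ := List.mem_map.1 hp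
    rw [List.mem_range] at hk
    have h := List.all_eq_true.1 (List.all_eq_true.1 pair_closed k (List.mem_range.2 hk)) j (List.mem_range.2 hj)
    rw [Bool.and_eq_true] at h
    rw [hstep k hk j hj _ e.symm]
    exact List.mem_map.2 ⟨_, List.mem_range.2 (Nat.le_of_ble_eq_true h.1), rfl⟩
  let S : Subgroup H :=
    { carrier := {h | ∀ p, key p ∈ L → key (h • p) ∈ L}
      one_mem' := fun p hp => by rwa [one_smul]
      mul_mem' := fun {a b} ha hb p hp => by rw [mul_smul]; exact ha _ (hb p hp)
      inv_mem' := fun {a} ha => by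
        have hpow : ∀ n : ℕ, ∀ p, key p ∈ L → key (a ^ n • p) ∈ L := by
          intro n
          induction n with
          | zero => intro p hp; rwa [pow_zero, one_smul]
          | succ n ih => intro p hp; rw [pow_succ, mul_smul]; exact ih _ (ha p hp)
        have e : a⁻¹ = a ^ (orderOf a - 1) := inv_eq_of_mul_eq_one_right (by
          rw [← pow_succ', show orderOf a - 1 + 1 = orderOf a by have := orderOf_pos a; omega,
            pow_orderOf_eq_one])
        rw [e]; exact hpow _ }
  have hS : S = ⊤ := by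
    rw [eq_top_iff, ← M.gens.top, Subgroup.closure_le]
    rintro x ((rfl | rfl | rfl | rfl) | ⟨i, rfl⟩)
    · exact hgen 0 (by norm_num)
    · exact hgen 1 (by norm_num)
    · exact hgen 2 (by norm_num)
    · exact hgen 3 (by norm_num)
    · intro p hp
      have h := hgen (i.val + 4) (by omega) p hp
      have e : M.gen (i.val + 4) = M.gens.r i :=
        M.eq_of_code fun v => by rw [M.code_gen, M.act_r]; simp [genCols, Nat.mod_eq_of_lt i.isLt]
      rwa [e] at h
  have hclosed : ∀ h : H, key (h • (w₁, w₂)) ∈ L := fun h =>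
    (show h ∈ S by rw [hS]; trivial) _ (hk0 ▸ List.mem_map.2 ⟨0, List.mem_range.2 (by norm_num), rfl⟩)
  have himg : key '' MulAction.orbit H (w₁, w₂) = {n | n ∈ L} := by
    ext n
    constructor
    · rintro ⟨_, ⟨h, rfl⟩, rfl⟩
      exact hclosed h
    · intro hn
      obtain ⟨k, hk, rfl⟩ := List.mem_map.1 hn
      obtain ⟨h, e⟩ := hreach k (List.mem_range.1 hk)
      exact ⟨_, ⟨h, rfl⟩, e⟩
  have hnd : L.Nodup := by
    have : ∀ l : List ℕ, distinct l = true → l.Nodup := by
      intro l
      induction l with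
      | nil => intro _; exact List.nodup_nil
      | cons x xs ih =>
        intro h
        simp only [distinct, Bool.and_eq_true, List.all_eq_true, Bool.not_eq_true'] at h
        refine List.nodup_cons.2 ⟨fun hx => ?_, ih h.2⟩
        have := h.1 x hx
        rw [Nat.beq_refl] at this
        exact Bool.noConfusion this
    exact this _ pair_distinct
  have horb : Nat.card (MulAction.orbit H (w₁, w₂)) = 1386 := by
    rw [Nat.card_coe_set_eq, ← Set.ncard_image_of_injective _ key_inj, himg,
      show {n | n ∈ L} = (L.toFinset : Set ℕ) by ext; simp, Set.ncard_coe_finset,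
      List.toFinset_card_of_nodup hnd, hL, List.length_map, List.length_range]
  have e := Nat.card_congr (MulAction.orbitProdStabilizerEquivGroup H (w₁, w₂))
  rw [Nat.card_prod, horb, hst, M.gens.card] at e
  omega

theorem polWord_mem (i : Fin 16) : M.val (polWords.getD i.val []) ∈ M.polStab := by
  have h := List.all_eq_true.1 pol_check i.val (List.mem_range.2 i.isLt)
  simp only [Bool.and_eq_true] at h
  obtain ⟨⟨⟨⟨hw, h1⟩, h2⟩, hd⟩, -⟩ := h
  set w := polWords.getD i.val []
  obtain ⟨w₁, w₂, c1, c2, hall⟩ := M.exists_line_basis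
  have hline : M.val w ∈ M.lineStab := fun v hv => by
    have e1 : R.ρ (M.val w) w₁ = w₁ := M.code_inj _ _ (by rw [M.code_val, c1, Nat.eq_of_beq_eq_true h1])
    have e2 : R.ρ (M.val w) w₂ = w₂ := M.code_inj _ _ (by rw [M.code_val, c2, Nat.eq_of_beq_eq_true h2])
    rcases hall v hv with rfl | rfl | rfl | rfl
    · exact map_zero _
    · exact e1
    · exact e2
    · rw [map_add, e1, e2]
  refine ⟨hline, fun v hv => ?_⟩
  rw [M.code_add, M.code_val]
  change delW w (M.code v) < 4
  have hb : ∀ k, k < 12 → inPerp (2 ^ k) = true → delW w (2 ^ k) < 4 := fun k hk hp => by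
    have := List.all_eq_true.1 hd k (List.mem_range.2 hk)
    rw [hp] at this
    simpa using this
  have key : ∀ n, n < 2 ^ 12 → inPerp n = true → delW w n < 4 := by
    have hx : ∀ a b, delW w (Nat.xor a b) = Nat.xor (delW w a) (delW w b) := delW_xor w
    intro n hn
    have hind : ∀ k, k ≤ 12 → ∀ n, n < 2 ^ k → inPerp n = true → delW w n < 4 := by
      intro k
      induction k with
      | zero =>
        intro _ n hn _
        have : n = 0 := by simpa using hn
        subst this
        have := hx 0 0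
        rw [show Nat.xor (delW w 0) (delW w 0) = 0 from Nat.xor_self _, show Nat.xor 0 0 = 0 from rfl] at this
        omega
      | succ k ih =>
        intro hk n hn hp
        by_cases hlt : n < 2 ^ k
        · exact ih (by omega) n hlt hp
        · have hbit : Nat.testBit n k = true := by
            rw [Nat.testBit_eq_decide_div_mod_eq, decide_eq_true_eq]
            rw [pow_succ] at hn
            have : n / 2 ^ k = 1 := Nat.div_eq_of_lt_le (by omega) (by omega)
            rw [this]
          have hr : n - 2 ^ k < 2 ^ k := by rw [pow_succ] at hn; omega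
          have e : n = Nat.xor (2 ^ k) (n - 2 ^ k) := by rw [pow_xor_eq hr]; omega
          simp only [inPerp, Bool.and_eq_true, Bool.not_eq_true'] at hp
          have hk67 : k ≠ 6 ∧ k ≠ 7 := ⟨fun e' => by rw [e', hp.1] at hbit; exact Bool.noConfusion hbit,
            fun e' => by rw [e', hp.2] at hbit; exact Bool.noConfusion hbit⟩
          have hbits : ∀ j, j ≠ k → Nat.testBit (n - 2 ^ k) j = Nat.testBit n j := by
            intro j hj
            conv_rhs => rw [e]
            show _ = Nat.testBit (2 ^ k ^^^ (n - 2 ^ k)) j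
            rw [Nat.testBit_xor, Nat.testBit_two_pow_of_ne (Ne.symm hj), Bool.false_xor]
          rw [e, hx]
          refine Nat.xor_lt_two_pow (n := 2) (hb k (by omega) ?_) (ih (by omega) _ hr ?_)
          · simp only [inPerp, Bool.and_eq_true, Bool.not_eq_true']
            exact ⟨Nat.testBit_two_pow_of_ne hk67.1, Nat.testBit_two_pow_of_ne hk67.2⟩
          · simp only [inPerp, Bool.and_eq_true, Bool.not_eq_true']
            rw [hbits 6 (Ne.symm hk67.1), hbits 7 (Ne.symm hk67.2)]
            exact hp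
    exact hind 12 le_rfl n hn
  exact key _ (M.code_lt v) hv

theorem card_polStab_ge : 16 ≤ Nat.card M.polStab := by
  classical
  have := M.finite
  have hP : ∀ i : Fin 16, M.val (polWords.getD i.val []) ∈ M.polStab := M.polWord_mem
  rw [← Nat.card_fin 16]
  refine Nat.card_le_card_of_injective (fun i => (⟨_, hP i⟩ : M.polStab)) fun i i' e => ?_
  by_contra hne
  have h := List.all_eq_true.1 pol_check i.val (List.mem_range.2 i.isLt)
  simp only [Bool.and_eq_true] at h
  have h' := List.all_eq_true.1 h.2 i'.val (List.mem_range.2 i'.isLt)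
  rw [Bool.or_eq_true] at h'
  rcases h' with h' | h'
  · exact hne (Fin.ext (Nat.eq_of_beq_eq_true h'))
  · obtain ⟨k, hk, hk'⟩ := List.any_eq_true.1 h'
    obtain ⟨v, hv⟩ := M.code_surj (2 ^ k) (Nat.pow_lt_pow_right (by norm_num) (List.mem_range.1 hk))
    have e' : M.val (polWords.getD i.val []) = M.val (polWords.getD i'.val []) := congrArg Subtype.val e
    have e2 := congrArg (fun g => M.code (R.ρ g v)) e'
    simp only [M.code_val, hv] at e2
    rw [e2, Nat.beq_refl] at hk'
    exact Bool.noConfusion hk'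

theorem polStab_moves : ∃ h ∈ M.polStab, ∃ v, inPerp (M.code v) = true ∧ R.ρ h v ≠ v := by
  obtain ⟨i, hi, h⟩ := List.any_eq_true.1 pol_moves
  obtain ⟨k, hk, h'⟩ := List.any_eq_true.1 h
  rw [Bool.and_eq_true] at h'
  rw [List.mem_range] at hi hk
  obtain ⟨v, hv⟩ := M.code_surj (2 ^ k) (Nat.pow_lt_pow_right (by norm_num) hk)
  refine ⟨M.val (polWords.getD i []), ?_, v, hv ▸ h'.1, fun e => ?_⟩
  · exact M.polWord_mem ⟨i, hi⟩
  · have e' := congrArg M.code e
    rw [M.code_val, hv] at e'
    have h2 := h'.2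
    simp only [delW, e', Bool.not_eq_true'] at h2
    rw [show Nat.xor (2 ^ k) (2 ^ k) = 0 from Nat.xor_self _] at h2
    exact Bool.noConfusion h2

end Model

end CfsgLib.J4Type
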