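import Cfsg.Agent.Lib.J4Type.MaxLocal.LThree
import Cfsg.Agent.Lib.J4Type.MaxLocal.Assembly

/-!
The pieces of `2^{3+12}.(S₅ × L₃(2))` in a group of Janko-four type.
-/

set_option autoImplicit false
set_option linter.unusedSectionVars false
set_option maxRecDepth 20000

namespace CfsgLib.J4Type

open MaxLocal

universe u

variable {G : Type u} [Group G] [Finite G] {z : G} {P : Subgroup G}

namespace Ctx

variable (X : Ctx z P)

theorem pieces (hP : VPackage X) :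
    Pieces z X.Eg (X.Lc.map (CC z).subtype) ((X.CEc ⊓ QQ z).map (CC z).subtype) := by
  classical
  haveI : Fact (Nat.Prime 2) := ⟨Nat.prime_two⟩
  have hcard : ∀ S : Subgroup (CC z), Nat.card (S.map (CC z).subtype) = Nat.card S := fun S =>
    (Nat.card_congr (Subgroup.equivMapOfInjective S _ (CC z).subtype_injective).toEquiv).symm
  have hmem : ∀ c ∈ Subgroup.centralizer (X.Eg : Set G), ∃ g ∈ X.CEc, ((g : CC z) : G) = c := fun c hc => by
    rw [X.centralizer_Eg] at hc; exact hc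
  have hLmem : ∀ {c : CC z}, c ∈ X.CEc → c ∈ QQ z → c ∈ X.Lc := by
    intro c h1 h2
    refine ⟨h1, ?_⟩
    show QuotientGroup.mk' (QQ z) c ∈ X.model.polStab
    rw [show QuotientGroup.mk' (QQ z) c = 1 from (QuotientGroup.eq_one_iff _).2 h2]
    exact one_mem _
  refine
    { elementary := X.Eg_elementary
      card_E := X.card_Eg
      card_C := by rw [X.centralizer_Eg, hcard, X.card_CEc]; norm_num
      L_le := by rw [X.centralizer_Eg]; exact Subgroup.map_mono X.Lc_le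
      L_normal := ?_
      L_two := X.isPGroup_Lc.map _
      L_ge := by
        rw [hcard, X.card_Lc]
        exact (Nat.mul_le_mul_left 2048 X.model.card_polStab_ge).trans' (by norm_num)
      E_le := Subgroup.map_mono fun c hc => ⟨X.mem_CEc_iff.2 fun e he => X.Ec_comm hc he, (X.mem_Ec_iff.1 hc).1⟩
      A_le := Subgroup.map_mono fun c hc => hLmem hc.1 hc.2
      card_A := by rw [hcard, X.card_QQ_CEc]; norm_num
      A_normal := ?_
      A_comm := ?_
      A_sq := ?_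
      A_central := ?_
      z_mem := X.z_mem_Eg
      z_ne := fun e => X.zC_ne (Subtype.ext e)
      A_derived := ?_
      exists_k := X.exists_l32 hP }
  · intro c hc l hl
    obtain ⟨g, hg, rfl⟩ := hmem c hc
    obtain ⟨l, hl', rfl⟩ := hl
    exact ⟨g * l * g⁻¹, X.Lc_conj hg hl', rfl⟩
  · intro c hc a ha
    obtain ⟨g, hg, rfl⟩ := hmem c hc
    obtain ⟨a, ⟨ha1, ha2⟩, rfl⟩ := ha
    exact ⟨g * a * g⁻¹, ⟨X.CEc.mul_mem (X.CEc.mul_mem hg ha1) (X.CEc.inv_mem hg),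
      (QQ_normal z).conj_mem a ha2 g⟩, rfl⟩
  · rintro _ ⟨l, hl, rfl⟩ _ ⟨a, ⟨ha1, ha2⟩, rfl⟩
    exact ⟨l * a * l⁻¹ * a⁻¹, X.comm_mem_Ec hl ha1 ha2, rfl⟩
  · rintro _ ⟨a, ⟨-, ha2⟩, rfl⟩
    exact ⟨a * a, X.sq_mem_Ec ha2, rfl⟩
  · rintro _ ⟨a, ⟨ha1, ha2⟩, rfl⟩ hc
    exact ⟨a, X.central_QQ ha2 fun b hb => Subtype.ext (hc _ ⟨b, hb, rfl⟩), rfl⟩
  · rintro _ ⟨a, ⟨-, ha⟩, rfl⟩ _ ⟨b, ⟨-, hb⟩, rfl⟩
    rcases X.eq_one_or_z (X.ext13.comm_mem (⟨a, ha⟩ : QQ z) ⟨b, hb⟩) with e | e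
    · left; exact congrArg Subtype.val e
    · right; exact congrArg Subtype.val e

end Ctx

/-- The maximal two-local `2^{3+12}.(S₅ × L₃(2))` from the five- and seven-local data. -/
theorem pentad_of_locals (X : Ctx z P) (hmoved : ∃ m ∈ Subgroup.normalizer (X.Vg : Set G), m * z * m⁻¹ ≠ z)
    (hl : Locals G) :
    ∃ L : Subgroup G, Cfsg.IsSpecial 2 ↥L ∧ Nat.card ↥L = 2 ^ 15 ∧ Nat.card ↥(Subgroup.center ↥L) = 8 ∧
    Nonempty (↥(Subgroup.normalizer (L : Set G)) ⧸ L.subgroupOf (Subgroup.normalizer (L : Set G)) ≃*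
      Equiv.Perm (Fin 5) × Matrix.SpecialLinearGroup (Fin 3) (ZMod 2)) ∧
    (∀ K : Subgroup ↥(Subgroup.normalizer (L : Set G)),
      ¬ (L.subgroupOf (Subgroup.normalizer (L : Set G))).IsComplement' K) ∧
    (∃ K₁ : Subgroup G, K₁ ≤ Subgroup.normalizer (L : Set G) ∧ Nonempty (↥K₁ ≃* Equiv.Perm (Fin 5))) ∧
    (∃ K₂ : Subgroup G, K₂ ≤ Subgroup.normalizer (L : Set G) ∧
      Nonempty (↥K₂ ≃* Matrix.SpecialLinearGroup (Fin 3) (ZMod 2))) ∧
    (∃ Q : Sylow 5 G, Subgroup.normalizer ((Q : Subgroup G) : Set G) ≤ Subgroup.normalizer (L : Set G)) ∧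
    (∃ S : Sylow 7 G, Subgroup.normalizer ((S : Subgroup G) : Set G) ≤ Subgroup.normalizer (L : Set G)) :=
  (X.pieces (X.vPackage hmoved)).conclusion hl

end CfsgLib.J4Type
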