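import Cfsg.Agent.Lib.J4Type.Classes
import Cfsg.Agent.Lib.J4Type.Frame

/-!
Every linear map of the subgroup of order `2^11` preserving the elements outside the class of `z` is induced
by its normaliser: those maps embed in `M24`, and the normaliser already induces a group of that order.
-/

set_option autoImplicit false
set_option linter.unusedSectionVars false
set_option linter.style.haveILetI false

namespace CfsgLib.J4Type

open CfsgLib.FischerTwoFour.Cocode (cs cd cd_lt cs_zero shift isConj_conj_iff perm_eq_of_pairs)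

universe u

variable {G : Type u} [Group G] [Finite G] {z : G} {A : Subgroup G}

namespace VFrame

variable (h : VFrame z A)

include h

/-- An endomorphism of `A` preserving the elements outside the class of `z` is a conjugation. -/
theorem exists_conj_of_preserves (f : A →* A) (hf : Function.Bijective f)
    (hfnc : ∀ a : A, ((f a : A) : G) ∈ ncG z A ↔ (a : G) ∈ ncG z A) :
    ∃ m ∈ Subgroup.normalizer (A : Set G), ∀ a : A, m * (a : G) * m⁻¹ = ((f a : A) : G) := by
  classical
  haveI := Fintype.ofFinite G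
  letI : CommGroup A :=
    { (inferInstance : Group A) with mul_comm := fun a c => Subtype.ext (h.comm _ a.2 _ c.2) }
  let inc : Additive A → G := fun a => ((Additive.toMul a : A) : G)
  have inc_add : ∀ a c, inc (a + c) = inc a * inc c := fun a c => rfl
  have inc_inj : Function.Injective inc := fun a c e => Additive.toMul.injective (Subtype.ext e)
  have inc_one : ∀ a, inc a = 1 ↔ a = 0 := fun a =>
    ⟨fun e => inc_inj (e.trans rfl), fun e => by rw [e]; rfl⟩
  let mk : ∀ x, x ∈ A → Additive A := fun x hx => Additive.ofMul ⟨x, hx⟩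
  have hmem : ∀ a, a ∈ ncSet z A ↔ inc a ∈ ncG z A := fun a =>
    ⟨fun ha => ⟨(Additive.toMul a).2, fun e => ha.1 (Subtype.ext e), ha.2⟩,
      fun ha => ⟨fun e => ha.2.1 (congrArg Subtype.val e), ha.2.2⟩⟩
  have hgm : ∀ m, m ∈ Subgroup.normalizer (A : Set G) → ∃ g : Additive A ≃+ Additive A,
      ∀ a, inc (g a) = m * inc a * m⁻¹ := by
    intro m hm
    refine ⟨
      { toFun := fun a => mk _ (norm_conj_mem hm (Additive.toMul a).2)
        invFun := fun a => mk _ (norm_conj_mem (inv_mem hm) (Additive.toMul a).2)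
        left_inv := fun a => inc_inj (by show m⁻¹ * (m * inc a * m⁻¹) * m⁻¹⁻¹ = inc a; group)
        right_inv := fun a => inc_inj (by show m * (m⁻¹ * inc a * m⁻¹⁻¹) * m⁻¹ = inc a; group)
        map_add' := fun a c => inc_inj (by
          show m * (inc a * inc c) * m⁻¹ = m * inc a * m⁻¹ * (m * inc c * m⁻¹); group) }, fun a => rfl⟩
  obtain ⟨φ₀, W₀, hxor, hinj, h64, hW0, hsep, hnc⟩ := h.frame
  let F₀ : FischerTwoFour.Cocode.Frame (ncSet z A) (mk z h.mem) :=
    { φ := φ₀
      φ_xor := hxor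
      φ_inj := hinj
      φ_z := inc_inj h64
      W := W₀
      W_zero := hW0
      W_sep := hsep
      nc_iff := hnc }
  have hfr : ∀ m, m ∈ Subgroup.normalizer (A : Set G) → ∀ z' : Additive A, m * z * m⁻¹ = inc z' →
      Nonempty (FischerTwoFour.Cocode.Frame (ncSet z A) z') := by
    intro m hm z' hz'
    obtain ⟨g, hg⟩ := hgm m hm
    have hgnc : ∀ a, g a ∈ ncSet z A ↔ a ∈ ncSet z A := fun a => by
      rw [hmem, hmem, hg]; exact norm_ncG hm
    exact ⟨
      { φ := fun c => g (F₀.φ c)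
        φ_xor := fun a c ha hc => by rw [F₀.φ_xor a c ha hc, map_add]
        φ_inj := fun a c ha hc e => F₀.φ_inj a c ha hc (g.injective e)
        φ_z := inc_inj (by rw [hg, F₀.φ_z]; exact hz')
        W := fun k => g (F₀.W k)
        W_zero := by rw [F₀.W_zero, map_zero]
        W_sep := fun k l a hk hl ha e => F₀.W_sep k l a hk hl ha (g.injective (by rw [map_add]; exact e))
        nc_iff := fun x => by
          obtain ⟨y, rfl⟩ := g.surjective x
          rw [hgnc, F₀.nc_iff]
          refine exists_congr fun n => and_congr_right fun _ => ?_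
          rw [← map_add]
          exact g.injective.eq_iff.symm }⟩
  let zA : Additive A := mk z h.mem
  have hzNc : zA ∉ ncSet z A := fun e => e.2 (IsConj.refl z)
  let S : FischerTwoFour.Cocode.Sys (Additive A) :=
    { Nc := ncSet z A
      two := fun a => inc_inj (by rw [inc_add]; exact h.sq _ (Additive.toMul a).2)
      card := (Nat.card_congr Additive.toMul).trans h.card
      nonempty := ⟨zA, fun e => h.ne_one ((inc_one zA).2 e), hzNc⟩
      frame := fun a ha ha' => by
        have h1 : inc a ≠ 1 := fun e => ha ((inc_one a).1 e)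
        obtain ⟨m, hm, hmz⟩ := h.conj_z _ (Additive.toMul a).2
          ((eq_or_conj (Additive.toMul a).2 h1).resolve_left fun e => ha' ((hmem a).2 e))
        exact hfr m hm a hmz }
  obtain ⟨p, -, -, -, hsurj, -, hequiv, -, -⟩ := exists_labelling_add S
  let T := {g : Additive A ≃+ Additive A // ∀ u, g u ∈ S.Nc ↔ u ∈ S.Nc}
  have hT : ∀ g : T, ∃ σ : Cfsg.M24, ∀ i j, g.1 (p i j) =
      p ((σ : Equiv.Perm Cfsg.GolayPt) i) ((σ : Equiv.Perm Cfsg.GolayPt) j) := fun g => by
    obtain ⟨σ, hσ, e⟩ := hequiv g.1 g.2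
    exact ⟨⟨σ, hσ⟩, e⟩
  choose Φ hΦ using hT
  have hΦinj : Function.Injective Φ := fun g g' e => Subtype.ext (AddEquiv.toAddMonoidHom_injective
    (S.hom_ext fun u hu => by
      obtain ⟨i, j, -, rfl⟩ := hsurj u hu
      show g.1 (p i j) = g'.1 (p i j)
      rw [hΦ, hΦ, e]))
  have hΨ : ∀ m : ↥(Subgroup.normalizer (A : Set G)), ∃ g : T, ∀ a, inc (g.1 a) = (m : G) * inc a * (m : G)⁻¹ :=
    fun m => by
      obtain ⟨g, hg⟩ := hgm m m.2
      exact ⟨⟨g, fun u => by
        show g u ∈ ncSet z A ↔ u ∈ ncSet z A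
        rw [hmem, hmem, hg]; exact norm_ncG m.2⟩, hg⟩
  choose Ψ hΨ' using hΨ
  -- the normaliser induces as many maps as `M24` has elements
  haveI : Finite T := Finite.of_injective Φ hΦinj
  have hcard : Nat.card T ≤ 244823040 := by
    rw [← CfsgLib.Golay.natCard_M24]; exact Nat.card_le_card_of_injective Φ hΦinj
  have hfib : ∀ m m' : ↥(Subgroup.normalizer (A : Set G)), Ψ m = Ψ m' → (m : G)⁻¹ * m' ∈ A := by
    intro m m' e
    refine h.self_cent (Subgroup.mem_centralizer_iff.2 fun a ha => ?_)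
    have e1 := (hΨ' m (mk a ha)).symm.trans ((congrArg (fun g : T => inc (g.1 (mk a ha))) e).trans
      (hΨ' m' (mk a ha)))
    have e2 : (m : G) * a * (m : G)⁻¹ = (m' : G) * a * (m' : G)⁻¹ := e1
    calc a * ((m : G)⁻¹ * m') = (m : G)⁻¹ * ((m : G) * a * (m : G)⁻¹) * m' := by group
      _ = (m : G)⁻¹ * ((m' : G) * a * (m' : G)⁻¹) * m' := by rw [e2]
      _ = (m : G)⁻¹ * m' * a := by group
  let sec : T → ↥(Subgroup.normalizer (A : Set G)) := fun g =>
    if hg : ∃ m, Ψ m = g then hg.choose else 1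
  have hsec : ∀ m, Ψ (sec (Ψ m)) = Ψ m := fun m => by
    have hg : ∃ m', Ψ m' = Ψ m := ⟨m, rfl⟩
    simp only [sec, dif_pos hg]
    exact hg.choose_spec
  have hle : Nat.card ↥(Subgroup.normalizer (A : Set G)) ≤ Nat.card (Set.range Ψ) * Nat.card A := by
    rw [← Nat.card_prod]
    refine Nat.card_le_card_of_injective
      (fun m => (⟨Ψ m, m, rfl⟩, ⟨_, hfib _ m (hsec m)⟩)) fun m m' e => ?_
    obtain ⟨e1, e2⟩ := Prod.ext_iff.1 e
    have e3 : ((sec (Ψ m) : ↥(Subgroup.normalizer (A : Set G))) : G)⁻¹ * (m : G) =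
        ((sec (Ψ m') : ↥(Subgroup.normalizer (A : Set G))) : G)⁻¹ * (m' : G) := congrArg Subtype.val e2
    rw [show Ψ m = Ψ m' from congrArg Subtype.val e1] at e3
    exact Subtype.ext (mul_left_cancel e3)
  rw [h.card_normalizer, h.card] at hle
  have hsurjΨ : Set.range Ψ = Set.univ := by
    refine Set.eq_of_subset_of_ncard_le (Set.subset_univ _) ?_
    rw [Set.ncard_univ, ← Nat.card_coe_set_eq]
    omega
  -- the given map is one of them
  let g₀ : Additive A ≃+ Additive A := MulEquiv.toAdditive (MulEquiv.ofBijective f hf)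
  have hg₀ : ∀ a, inc (g₀ a) = ((f (Additive.toMul a) : A) : G) := fun a => rfl
  obtain ⟨m, hm⟩ : (⟨g₀, fun u => by
      show g₀ u ∈ ncSet z A ↔ u ∈ ncSet z A
      rw [hmem, hmem, hg₀]; exact hfnc _⟩ : T) ∈ Set.range Ψ := hsurjΨ ▸ Set.mem_univ _
  exact ⟨m, m.2, fun a => by
    have e := hΨ' m (Additive.ofMul a)
    rw [hm] at e
    exact e.symm⟩

end VFrame

namespace VAct

variable {ec : ℕ} (D : VAct z A ec)

include D

/-- A linear map of the codes preserving the set of `276` is induced by the normaliser. -/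
theorem exists_conj_code {cols : List ℕ} (hlt : ∀ v, v < 2048 → app cols v < 2048)
    (hinj : ∀ v, v < 2048 → app cols v = 0 → v = 0)
    (hnc : ∀ v, v < 2048 → VCode.isNc 2 true (app cols v) = VCode.isNc 2 true v) :
    ∃ m ∈ Subgroup.normalizer (A : Set G), ∀ v, v < 2048 → m * D.enc v * m⁻¹ = D.enc (app cols v) := by
  have hcode : ∀ a : A, ∃ v, v < 2048 ∧ D.enc v = a := fun a => D.enc_surj a a.2
  choose c hc1 hc2 using hcode
  have hcmul : ∀ a b : A, c (a * b) = Nat.xor (c a) (c b) := fun a b =>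
    D.enc_inj _ _ (hc1 _) (xor_lt_2048 (hc1 _) (hc1 _)) (by
      rw [hc2, D.enc_xor _ _ (hc1 _) (hc1 _), hc2, hc2]; rfl)
  let f : A →* A := MonoidHom.mk' (fun a => ⟨D.enc (app cols (c a)), D.enc_mem _ (hlt _ (hc1 a))⟩)
    fun a b => Subtype.ext (by
      show D.enc _ = D.enc _ * D.enc _
      rw [hcmul, app_xor, D.enc_xor _ _ (hlt _ (hc1 a)) (hlt _ (hc1 b))])
  have hf : Function.Injective f := by
    rw [injective_iff_map_eq_one]
    intro a ha
    have h0 : app cols (c a) = 0 := D.enc_inj _ 0 (hlt _ (hc1 a)) (by norm_num)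
      ((congrArg Subtype.val ha).trans D.enc_zero'.symm)
    exact Subtype.ext (by rw [← hc2 a, hinj _ (hc1 a) h0, D.enc_zero']; rfl)
  have key : ∀ v, v < 2048 → (D.enc v ∈ ncG z A ↔ VCode.isNc 2 true v = true) := fun v hv => by
    rw [D.ec_sel.2 v hv]
    exact ⟨fun ⟨_, h1, h2⟩ => ⟨fun h0 => h1 (by rw [h0, D.enc_zero']), h2⟩,
      fun ⟨h1, h2⟩ => ⟨D.enc_mem v hv, fun e => h1 (D.enc_inj v 0 hv (by norm_num)
        (e.trans D.enc_zero'.symm)), h2⟩⟩
  obtain ⟨m, hm, hm'⟩ := D.vframe.exists_conj_of_preserves f (Finite.injective_iff_bijective.1 hf)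
    fun a => by
      show D.enc _ ∈ ncG z A ↔ _
      rw [key _ (hlt _ (hc1 a)), hnc _ (hc1 a), ← key _ (hc1 a), hc2]
  refine ⟨m, hm, fun v hv => ?_⟩
  have e : c ⟨D.enc v, D.enc_mem v hv⟩ = v := D.enc_inj _ _ (hc1 _) hv (hc2 _)
  have h' := hm' ⟨D.enc v, D.enc_mem v hv⟩
  show _ = D.enc (app cols v)
  rw [show ((f ⟨D.enc v, D.enc_mem v hv⟩ : A) : G) = D.enc (app cols v) from congrArg
    (fun n => D.enc (app cols n)) e] at h'
  exact h'

end VAct

end CfsgLib.J4Type
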